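import Groth.Agent.Lib.NodalCrit14.Local
import Groth.Agent.Lib.NodalSing14.Scheme
import Groth.Agent.Lib.CI2.AvramovMap
import Groth.Agent.Lib.CI2.BaseFieldScheme
import Groth.Agent.Lib.FibDepth5.GeomRk
import Groth.Agent.S2169
import Groth.Prelude.Def_Pi1

/-!
# Nodes of curves over algebraically closed fields through complete intersections and Fitting ideals
-/

set_option autoImplicit false
set_option linter.style.haveILetI false
set_option backward.isDefEq.respectTransparency.types false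

universe u

open CategoryTheory CategoryTheory.Limits AlgebraicGeometry IsLocalRing

noncomputable section

namespace Groth.Agent.NodalCrit14

/-- An ordinary double point is a complete intersection. -/
theorem ci_of_isOrdDoublePt {K A : Type u} [Field K] [CommRing A] [IsLocalRing A] [Algebra K A]
    (h : Curv2.IsOrdDoublePt K A) : Pi1.IsCompleteIntersection A := by
  obtain ⟨e, -⟩ := h
  haveI := ArtFunLib.isRegularLocalRing_mvPowerSeries K 2
  let f : MvPowerSeries (Fin 2) K := MvPowerSeries.X 0 * MvPowerSeries.X 1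
  have hf0 : f ≠ 0 := mul_ne_zero
    (fun h => by simpa [MvPowerSeries.coeff_X] using congrArg (MvPowerSeries.coeff (Finsupp.single (0 : Fin 2) 1)) h)
    (fun h => by simpa [MvPowerSeries.coeff_X] using congrArg (MvPowerSeries.coeff (Finsupp.single (1 : Fin 2) 1)) h)
  have hm : ∀ r ∈ [f], r ∈ maximalIdeal (MvPowerSeries (Fin 2) K) := fun y hy => by
    rw [List.mem_singleton] at hy
    subst hy
    refine (IsLocalRing.mem_maximalIdeal _).2 (mem_nonunits_iff.2 fun hu => ?_)
    have := MvPowerSeries.isUnit_iff_constantCoeff.1 hu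
    simp [f] at this
  refine ⟨_, inferInstance, inferInstance, [f], hm, ?_, ⟨e.trans (Ideal.quotEquivOfEq ?_)⟩⟩
  · exact DepthLib.isRegular_of_isWeaklyRegular
      ((RingTheory.Sequence.isWeaklyRegular_singleton_iff (M := MvPowerSeries (Fin 2) K) f).2
        fun a b h => mul_left_cancel₀ hf0 h)
      (fun r hr => hm r hr) (DepthLib.smul_top_ne_top (maximalIdeal.isMaximal _).ne_top)
  · show Ideal.span _ = Ideal.ofList [f]
    rw [Ideal.ofList_singleton]

variable {X S : Scheme.{u}}

/-- The first Fitting ideal subscheme of the differentials is unramified over the base at the points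
above `p`. -/
def SingUnr (f : X ⟶ S) (p : X) : Prop :=
  ∀ z : (Fitt.sheafIdeal (Omega.sheaf f) 1).subscheme, (Fitt.sheafIdeal (Omega.sheaf f) 1).subschemeι z = p →
    z ∉ CohB1.support (Omega.sheaf ((Fitt.sheafIdeal (Omega.sheaf f) 1).subschemeι ≫ f))

theorem isOpen_singUnr (f : X ⟶ S) [LocallyOfFiniteType f] [QuasiSeparated f] :
    IsOpen {p | SingUnr f p} := by
  let g := (Fitt.sheafIdeal (Omega.sheaf f) 1).subschemeι ≫ f
  have h : {p | SingUnr f p} =
      ((Fitt.sheafIdeal (Omega.sheaf f) 1).subschemeι '' CohB1.support (Omega.sheaf g))ᶜ := by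
    ext p
    simp only [Set.mem_compl_iff, Set.mem_image, not_exists, not_and]
    exact ⟨fun hp z hz hzp => hp z hzp hz, fun hp z hzp hz => hp z hz hzp⟩
  rw [h]
  exact (((Fitt.sheafIdeal (Omega.sheaf f) 1).subschemeι.isClosedEmbedding.isClosedMap _
    (M1.isClosed_support (Omega26.isFT g))).isOpen_compl)

theorem formallyUnramified_of_notMem_support {Z : Scheme.{u}} (g : Z ⟶ S) [LocallyOfFiniteType g]
    [QuasiSeparated g] (h : ∀ z, z ∉ CohB1.support (Omega.sheaf g)) : FormallyUnramified g := by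
  choose U hz hU using fun z => (Omega26.notMem_support_iff g z).1 (h z)
  exact IsZariskiLocalAtSource.of_iSup_eq_top U (top_le_iff.1 fun z _ =>
    TopologicalSpace.Opens.mem_iSup.2 ⟨z, hz z⟩) hU

theorem formallyUnramified_iff_singUnr (f : X ⟶ S) [LocallyOfFiniteType f] [QuasiSeparated f] :
    FormallyUnramified ((Fitt.sheafIdeal (Omega.sheaf f) 1).subschemeι ≫ f) ↔ ∀ p, SingUnr f p := by
  refine ⟨fun h p z _ => (Omega26.notMem_support_iff _ z).2 ⟨⊤, trivial, ?_⟩,
    fun h => formallyUnramified_of_notMem_support _ fun z => h _ z rfl⟩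
  exact MorphismProperty.comp_mem _ _ _ inferInstance h

theorem notMem_support_baseChange {Z S' Z' : Scheme.{u}} (g : Z ⟶ S) [LocallyOfFiniteType g]
    [QuasiSeparated g] (t : S' ⟶ S) (p : Z' ⟶ Z) (q : Z' ⟶ S') (sq : IsPullback p q g t) (z : Z') :
    z ∉ CohB1.support (Omega.sheaf q) ↔ p z ∉ CohB1.support (Omega.sheaf g) := by
  let e := sq.isoPullback
  have key : ∀ w, w ∈ CohB1.support (Omega.sheaf (pullback.snd g t)) ↔
      pullback.fst g t w ∈ CohB1.support (Omega.sheaf g) := fun w => by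
    rw [← Fitting26.support_zero (Omega26.isQCoh _) (Omega26.isFT _),
      ← Fitting26.support_zero (Omega26.isQCoh g) (Omega26.isFT g), ← Omega26.fitting_comap g t 0,
      Scheme.IdealSheafData.support_comap]
    rfl
  have he : e.hom ≫ pullback.snd g t = q := sq.isoPullback_hom_snd
  haveI : LocallyOfFiniteType q := he ▸ inferInstance
  haveI : QuasiSeparated q := he ▸ inferInstance
  have hp : p z = pullback.fst g t (e.hom z) := by
    rw [← Scheme.Hom.comp_apply, sq.isoPullback_hom_fst]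
  rw [hp, ← key, Omega26.notMem_support_iff, Omega26.notMem_support_iff]
  constructor
  · rintro ⟨U, hU, hfu⟩
    refine ⟨e.inv ⁻¹ᵁ U, ?_, ?_⟩
    · show e.inv (e.hom z) ∈ U
      rwa [← Scheme.Hom.comp_apply, e.hom_inv_id]
    · rw [show (e.inv ⁻¹ᵁ U).ι ≫ pullback.snd g t = (e.inv ∣_ U) ≫ U.ι ≫ q by
        rw [morphismRestrict_ι_assoc, ← he, e.inv_hom_id_assoc]]
      exact (MorphismProperty.cancel_left_of_respectsIso _ _ _).2 hfu
  · rintro ⟨U, hU, hfu⟩
    refine ⟨e.hom ⁻¹ᵁ U, hU, ?_⟩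
    rw [show (e.hom ⁻¹ᵁ U).ι ≫ q = (e.hom ∣_ U) ≫ U.ι ≫ pullback.snd g t by
      rw [morphismRestrict_ι_assoc, he]]
    exact (MorphismProperty.cancel_left_of_respectsIso _ _ _).2 hfu

theorem singUnr_iff_baseChange (f : X ⟶ S) [LocallyOfFiniteType f] [QuasiSeparated f] {S' : Scheme.{u}}
    (t : S' ⟶ S) (y : ↥(pullback f t)) :
    SingUnr (pullback.snd f t) y ↔ SingUnr f (pullback.fst f t y) := by
  let I := Fitt.sheafIdeal (Omega.sheaf f) 1
  have hI := Omega26.fitting_comap f t 1
  unfold SingUnr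
  rw [← hI]
  let π : (I.comap (pullback.fst f t)).subscheme ⟶ I.subscheme :=
    (I.comapIso (pullback.fst f t)).hom ≫ pullback.snd (pullback.fst f t) I.subschemeι
  have sq1 : IsPullback π (I.comap (pullback.fst f t)).subschemeι I.subschemeι (pullback.fst f t) :=
    (IsPullback.of_hasPullback (pullback.fst f t) I.subschemeι).flip.of_iso
      (I.comapIso (pullback.fst f t)).symm (Iso.refl _) (Iso.refl _) (Iso.refl _)
      (by simp only [π, Iso.symm_hom, Iso.inv_hom_id_assoc, Iso.refl_hom, Category.comp_id])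
      (by simp) (by simp) (by simp)
  have sq : IsPullback π ((I.comap (pullback.fst f t)).subschemeι ≫ pullback.snd f t) (I.subschemeι ≫ f) t :=
    sq1.paste_vert (IsPullback.of_hasPullback f t)
  constructor
  · intro h z hz
    obtain ⟨z', hz'1, hz'2⟩ := Scheme.exists_preimage_of_isPullback sq1 z y hz
    exact hz'1 ▸ (notMem_support_baseChange _ t _ _ sq z').1 (h z' hz'2)
  · intro h z' hz'
    refine (notMem_support_baseChange _ t _ _ sq z').2 (h _ ?_)
    rw [← hz', ← Scheme.Hom.comp_apply, sq1.w, Scheme.Hom.comp_apply]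

variable {L : Type u} [Field L] [IsAlgClosed L]

omit [IsAlgClosed L] in
theorem le_sup_sq_of_unramifiedAt {T : Type u} [CommRing T] [Algebra L T] [Algebra.FiniteType L T]
    (F m : Ideal T) [m.IsMaximal] (hle : F ≤ m) [(m.map (Ideal.Quotient.mk F)).IsPrime]
    (h : Algebra.IsUnramifiedAt L (m.map (Ideal.Quotient.mk F))) : m ≤ F ⊔ m ^ 2 := by
  let q := m.map (Ideal.Quotient.mk F)
  haveI : Algebra.FormallyUnramified L (Localization.AtPrime q) := h
  haveI : q.IsMaximal := Ideal.IsMaximal.map_of_surjective_of_ker_le Ideal.Quotient.mk_surjective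
    (by rwa [Ideal.mk_ker])
  haveI : Algebra.EssFiniteType L (Localization.AtPrime q) := by
    haveI := Algebra.EssFiniteType.of_isLocalization (Localization.AtPrime q) q.primeCompl
    exact Algebra.EssFiniteType.comp L (T ⧸ F) _
  haveI : IsLocalHom (algebraMap L (Localization.AtPrime q)) :=
    ⟨fun a ha => isUnit_iff_ne_zero.2 fun h0 => by
      subst h0
      simp at ha⟩
  have h0 : maximalIdeal (Localization.AtPrime q) = ⊥ := by
    rw [← Algebra.FormallyUnramified.map_maximalIdeal (R := L), IsLocalRing.maximalIdeal_eq_bot, Ideal.map_bot]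
  intro y hy
  have hy' : algebraMap (T ⧸ F) (Localization.AtPrime q) (Ideal.Quotient.mk F y) = 0 :=
    (Ideal.mem_bot).1 (h0 ▸ (IsLocalization.AtPrime.to_map_mem_maximal_iff _ q _).2 (Ideal.mem_map_of_mem _ hy))
  obtain ⟨⟨s, hs⟩, hs'⟩ := (IsLocalization.map_eq_zero_iff q.primeCompl _ _).1 hy'
  obtain ⟨s, rfl⟩ := Ideal.Quotient.mk_surjective s
  have hsm : s ∉ m := fun h1 => hs (Ideal.mem_map_of_mem _ h1)
  obtain ⟨u, w, hw, hu⟩ := Ideal.IsMaximal.exists_inv ‹m.IsMaximal› hsm
  rw [show y = u * (s * y) + w * y by linear_combination (-y) * hu]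
  refine Submodule.add_mem_sup (Ideal.mul_mem_left _ _ ?_) (by rw [pow_two]; exact Ideal.mul_mem_mul hw hy)
  rw [← Ideal.Quotient.eq_zero_iff_mem, map_mul]
  exact hs'

theorem unramifiedAt_of_le_sup_sq {T : Type u} [CommRing T] [Algebra L T] [Algebra.FiniteType L T]
    (F m : Ideal T) [m.IsMaximal] (hle : F ≤ m) [(m.map (Ideal.Quotient.mk F)).IsPrime]
    (h : m ≤ F ⊔ m ^ 2) :
    (⟨m.map (Ideal.Quotient.mk F), inferInstance⟩ : PrimeSpectrum (T ⧸ F)) ∈
      Algebra.unramifiedLocus L (T ⧸ F) := by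
  let q := m.map (Ideal.Quotient.mk F)
  haveI : q.IsMaximal := Ideal.IsMaximal.map_of_surjective_of_ker_le Ideal.Quotient.mk_surjective
    (by rwa [Ideal.mk_ker])
  have hq : q ≤ q ^ 2 := by
    refine (Ideal.map_mono h).trans ?_
    rw [Ideal.map_sup, Ideal.map_quotient_self, bot_sup_eq, Ideal.map_pow]
  have hres : ∀ y : T ⧸ F, ∃ c : L, y - algebraMap L (T ⧸ F) c ∈ q := fun y => by
    letI : Field ((T ⧸ F) ⧸ q) := Ideal.Quotient.field q
    haveI : Algebra.FiniteType L ((T ⧸ F) ⧸ q) :=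
      Algebra.FiniteType.of_surjective (Ideal.Quotient.mkₐ L q) (Ideal.Quotient.mkₐ_surjective L q)
    haveI : Module.Finite L ((T ⧸ F) ⧸ q) := finite_of_finite_type_of_isJacobsonRing _ _
    obtain ⟨c, hc⟩ := (IsAlgClosed.algebraMap_bijective_of_isIntegral (k := L)).2 (Ideal.Quotient.mk q y)
    exact ⟨c, by rw [← Ideal.Quotient.eq, ← hc]; rfl⟩
  have htop : (⊤ : Submodule (T ⧸ F) Ω[(T ⧸ F)⁄L]) ≤ q • ⊤ := by
    conv_lhs => rw [← KaehlerDifferential.span_range_derivation L (T ⧸ F)]
    rw [Submodule.span_le]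
    rintro _ ⟨y, rfl⟩
    obtain ⟨c, hc⟩ := hres y
    have key : ∀ z ∈ q ^ 2, KaehlerDifferential.D L (T ⧸ F) z ∈ q • (⊤ : Submodule (T ⧸ F) _) := by
      intro z hz
      rw [pow_two] at hz
      refine Submodule.mul_induction_on hz (fun a ha b hb => ?_) fun a b ha hb => ?_
      · rw [Derivation.leibniz]
        exact add_mem (Submodule.smul_mem_smul ha trivial) (Submodule.smul_mem_smul hb trivial)
      · rw [map_add]; exact add_mem ha hb
    have h3 := key _ (hq hc)
    rwa [map_sub, Derivation.map_algebraMap, sub_zero] at h3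
  obtain ⟨r, hr, hr'⟩ := Submodule.exists_sub_one_mem_and_smul_eq_zero_of_fg_of_le_smul q ⊤
    (Module.finite_def.mp inferInstance) htop
  rw [Algebra.unramifiedLocus_eq_compl_support, Set.mem_compl_iff, Module.notMem_support_iff']
  intro x
  refine ⟨r, fun hrq => ‹q.IsMaximal›.ne_top ((Ideal.eq_top_iff_one _).2 ?_), hr' x trivial⟩
  simpa using q.sub_mem hrq hr

omit [IsAlgClosed L] in
theorem ringKrullDim_stalk_of_isClosed (f : X ⟶ Spec (CommRingCat.of L)) [LocallyOfFiniteType f] {x : X}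
    (hx : IsClosed ({x} : Set X)) : ringKrullDim (X.presheaf.stalk x) = FlatMor.localDim X x := by
  haveI : IsLocallyNoetherian X := LocallyOfFiniteType.isLocallyNoetherian f
  obtain ⟨b, hb⟩ := ENat.ne_top_iff_exists.1 (DimF18.coheight_ne_top x)
  rw [DimF18.localDim_eq f hb.symm, (VarDim.sdim_eq_zero_iff_isClosed f x).2 hx,
    ringKrullDim_stalk_eq_coheight, ← hb]
  simp

theorem chartMap_subschemeι {X : Scheme.{u}} (I : X.IdealSheafData) (U : X.affineOpens)
    {J : Ideal Γ(X, U.1)} (h : I.ideal U = J) :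
    (Spec.map (Ideal.quotEquivOfEq h).toCommRingCatIso.hom ≫ I.subschemeCover.f U) ≫ I.subschemeι =
      Spec.map (CommRingCat.ofHom (Ideal.Quotient.mk J)) ≫ U.2.fromSpec := by
  subst h
  refine (Category.assoc _ _ _).trans ((congrArg (Spec.map (Ideal.quotEquivOfEq (rfl : I.ideal U = _)).toCommRingCatIso.hom ≫ ·)
    (I.subschemeCover_map_subschemeι U)).trans ?_)
  rw [Scheme.IdealSheafData.glueDataObjι, IsAffineOpen.fromSpec]
  erw [Category.assoc, ← Spec.map_comp_assoc]
  rfl

/-- The point over `x` in a chart of the Fitting subscheme. -/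
theorem exists_chart (f : X ⟶ Spec (CommRingCat.of L)) [LocallyOfFiniteType f] [QuasiSeparated f]
    {x : X} (hx : IsClosed ({x} : Set X)) :
    ∃ (A T : Type u) (_ : CommRing A) (_ : CommRing T) (_ : Algebra L A) (_ : Algebra L T) (_ : Algebra A T)
      (_ : IsScalarTower L A T) (_ : Algebra.FiniteType L T) (j : Spec (CommRingCat.of T) ⟶ X)
      (_ : IsOpenImmersion j) (m : PrimeSpectrum T) (_ : m.asIdeal.IsMaximal)
      (j' : Spec (CommRingCat.of (T ⧸ Fitt.ideal T Ω[T⁄A] 1)) ⟶ (Fitt.sheafIdeal (Omega.sheaf f) 1).subscheme),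
      Function.Surjective (algebraMap L A) ∧ IsOpenImmersion j' ∧ j m = x ∧
      j ≫ f = Spec.map (CommRingCat.ofHom (algebraMap L T)) ∧
      j' ≫ (Fitt.sheafIdeal (Omega.sheaf f) 1).subschemeι =
        Spec.map (CommRingCat.ofHom (Ideal.Quotient.mk (Fitt.ideal T Ω[T⁄A] 1))) ≫ j ∧
      (x ∈ (Fitt.sheafIdeal (Omega.sheaf f) 1).support ↔ Fitt.ideal T Ω[T⁄A] 1 ≤ m.asIdeal) := by
  obtain ⟨U, hU, hxU, -⟩ := exists_isAffineOpen_mem_and_subset (X := X) (x := x) (U := ⊤) trivial
  have hV : IsAffineOpen (⊤ : (Spec (CommRingCat.of L)).Opens) := isAffineOpen_top _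
  have hle : U ≤ f ⁻¹ᵁ ⊤ := le_top
  let A := Γ(Spec (CommRingCat.of L), ⊤)
  let T := Γ(X, U)
  algebraize [(f.appLE ⊤ U hle).hom]
  letI : Algebra L A := (Scheme.ΓSpecIso (CommRingCat.of L)).inv.hom.toAlgebra
  letI : Algebra L T := ((algebraMap A T).comp (algebraMap L A)).toAlgebra
  haveI : IsScalarTower L A T := IsScalarTower.of_algebraMap_eq fun _ => rfl
  haveI : Algebra.FiniteType A T := f.finiteType_appLE hV hU hle
  have hsurj : Function.Surjective (algebraMap L A) :=
    (ConcreteCategory.bijective_of_isIso (Scheme.ΓSpecIso (CommRingCat.of L)).inv).2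
  haveI : Algebra.FiniteType L A := Algebra.FiniteType.of_surjective (Algebra.ofId L A) hsurj
  haveI : Algebra.FiniteType L T := Algebra.FiniteType.trans (R := L) (S := A) (A := T) inferInstance inferInstance
  have hj : hU.fromSpec ≫ f = Spec.map (CommRingCat.ofHom (algebraMap L T)) := by
    rw [← IsAffineOpen.SpecMap_appLE_fromSpec f hV hU hle, IsAffineOpen.fromSpec_top, Scheme.isoSpec_Spec_inv,
      ← Spec.map_comp]
    rfl
  have hF : (Fitt.sheafIdeal (Omega.sheaf f) 1).ideal ⟨U, hU⟩ = Fitt.ideal T Ω[T⁄A] 1 := by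
    haveI : Module.Finite T Γ(Omega.sheaf f, U) := Module.Finite.equiv (Omega26.sectEquiv f hU hV hle)
    rw [Fitting26.sheafIdeal_ideal (Omega26.isQCoh f) (Omega26.isFT f)]
    exact (FittingLib.ideal_congr (Omega26.sectEquiv f hU hV hle) 1).symm
  let m : PrimeSpectrum T := hU.primeIdealOf ⟨x, hxU⟩
  have hm : hU.fromSpec m = x := hU.fromSpec_primeIdealOf ⟨x, hxU⟩
  haveI : m.asIdeal.IsMaximal := (PrimeSpectrum.isClosed_singleton_iff_isMaximal m).1 (by
    exact Nodal27.isClosed_of_etale_of_isClosed hU.fromSpec f (by rw [hm]; exact hx))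
  let e := Ideal.quotEquivOfEq hF
  let j' : Spec (CommRingCat.of (T ⧸ Fitt.ideal T Ω[T⁄A] 1)) ⟶ (Fitt.sheafIdeal (Omega.sheaf f) 1).subscheme :=
    Spec.map e.toCommRingCatIso.hom ≫ (Fitt.sheafIdeal (Omega.sheaf f) 1).subschemeCover.f ⟨U, hU⟩
  haveI : IsOpenImmersion j' := @IsOpenImmersion.comp _ _ _
    (Spec.map e.toCommRingCatIso.hom) ((Fitt.sheafIdeal (Omega.sheaf f) 1).subschemeCover.f ⟨U, hU⟩)
    inferInstance ((Fitt.sheafIdeal (Omega.sheaf f) 1).subschemeCover.openCover.map_prop ⟨U, hU⟩)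
  refine ⟨A, T, inferInstance, inferInstance, inferInstance, inferInstance, inferInstance, inferInstance,
    inferInstance, hU.fromSpec, inferInstance, m, inferInstance, j', hsurj, inferInstance, hm, hj, ?_, ?_⟩
  · exact chartMap_subschemeι _ ⟨U, hU⟩ hF
  · rw [← SetLike.mem_coe, SetLike.mem_coe, Fitting26.mem_support_iff (Omega26.isQCoh f) (Omega26.isFT f) 1 hU hxU,
      ← FittingLib.ideal_congr (Omega26.sectEquiv f hU hV hle) 1]

/-- Over an algebraically closed field: a closed singular point of a curve is a node iff it is a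
complete intersection at which the Fitting subscheme is unramified. -/
theorem odpAt_iff (f : X ⟶ Spec (CommRingCat.of L)) [LocallyOfFiniteType f] [QuasiSeparated f]
    {x : X} (hd : FlatMor.localDim X x = 1) (hx : IsClosed ({x} : Set X)) :
    Nodal27.ODPAt f x ↔
      x ∉ f.smoothLocus ∧ Pi1.IsCompleteIntersection (X.presheaf.stalk x) ∧ SingUnr f x := by
  haveI : IsLocallyNoetherian X := LocallyOfFiniteType.isLocallyNoetherian f
  obtain ⟨A, T, _, _, _, _, _, _, _, j, _, m, _, j', hsurj, hj', hjm, hjf, hj'ι, hsupp⟩ := exists_chart f hx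
  have hm : IsClosed ({m} : Set (Spec (CommRingCat.of T))) :=
    (PrimeSpectrum.isClosed_singleton_iff_isMaximal m).2 inferInstance
  have hodp : Nodal27.ODPAt f x ↔ Nodal27.NodeData L m.asIdeal := by
    have h1 := Nodal27.odpAt_etale_iff j f hm
    rw [hjf, hjm] at h1
    exact h1.symm.trans (Nodal27.odpAt_spec_iff (R := T) m)
  have hz : ∀ (hle : Fitt.ideal T Ω[T⁄A] 1 ≤ m.asIdeal)
      (w : Spec (CommRingCat.of (T ⧸ Fitt.ideal T Ω[T⁄A] 1))),
      w.asIdeal = m.asIdeal.map (Ideal.Quotient.mk _) →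
      (Fitt.sheafIdeal (Omega.sheaf f) 1).subschemeι (j' w) = x := fun hle w hw => by
    rw [← Scheme.Hom.comp_apply, hj'ι, Scheme.Hom.comp_apply, ← hjm]
    congr 1
    refine PrimeSpectrum.ext ?_
    show w.asIdeal.comap (Ideal.Quotient.mk _) = m.asIdeal
    rw [hw, Ideal.comap_map_of_surjective _ Ideal.Quotient.mk_surjective, ← RingHom.ker_eq_comap_bot,
      Ideal.mk_ker, sup_eq_left.2 hle]
  have hcomp : j' ≫ (Fitt.sheafIdeal (Omega.sheaf f) 1).subschemeι ≫ f =
      Spec.map (CommRingCat.ofHom (algebraMap L (T ⧸ Fitt.ideal T Ω[T⁄A] 1))) := by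
    rw [← Category.assoc, hj'ι, Category.assoc, hjf, ← Spec.map_comp]
    rfl
  constructor
  · intro h
    have hns := Nodal27.not_mem_smoothLocus_of_odpAt f hx hd.le h
    refine ⟨hns, ?_, ?_⟩
    · letI := (RegSmooth17.toStalk f x).toAlgebra
      exact ci_of_isOrdDoublePt (K := L) (Nodal27.isOrdDoublePt_of_nodeData h)
    have hle : Fitt.ideal T Ω[T⁄A] 1 ≤ m.asIdeal := hsupp.1 (not_not.1 fun h' => hns
      ((FitSmooth14.mem_smoothLocus_iff_notMem_support f 1 x (by exact_mod_cast hd)).2 h'))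
    haveI : (m.asIdeal.map (Ideal.Quotient.mk (Fitt.ideal T Ω[T⁄A] 1))).IsPrime :=
      Ideal.map_isPrime_of_surjective Ideal.Quotient.mk_surjective (by rwa [Ideal.mk_ker])
    have hN := hodp.1 h
    obtain ⟨n, π, hπ⟩ := (Algebra.FiniteType.iff_quotient_mvPolynomial'' (R := L) (S := T)).1 inferInstance
    choose c hc using fun i => Nodal27.exists_sub_mem hN.1 (π (MvPolynomial.X i))
    have hmem := unramifiedAt_of_le_sup_sq (L := L) _ m.asIdeal hle
      ((Nodal27.le_jac_sup c π hπ hc hN).trans (sup_le_sup_right (NodalSing14.jac_le_fitting π hπ) _))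
    obtain ⟨_, ⟨r, rfl⟩, hmr, hsub⟩ := PrimeSpectrum.isTopologicalBasis_basic_opens.exists_subset_of_mem_open
      hmem Algebra.isOpen_unramifiedLocus
    haveI : Algebra.FormallyUnramified L (Localization.Away r) :=
      Algebra.basicOpen_subset_unramifiedLocus_iff.1 hsub
    intro z hzx
    let w : Spec (CommRingCat.of (T ⧸ Fitt.ideal T Ω[T⁄A] 1)) :=
      ⟨m.asIdeal.map (Ideal.Quotient.mk _), inferInstance⟩
    obtain rfl : z = j' w := (Fitt.sheafIdeal (Omega.sheaf f) 1).subschemeι.isClosedEmbedding.injective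
      (hzx.trans (hz hle w rfl).symm)
    let a : Spec (CommRingCat.of (Localization.Away r)) ⟶ Spec (CommRingCat.of (T ⧸ Fitt.ideal T Ω[T⁄A] 1)) :=
      Spec.map (CommRingCat.ofHom (algebraMap _ _))
    haveI : IsOpenImmersion a := IsOpenImmersion.of_isLocalization r
    have ha : FormallyUnramified ((a ≫ j') ≫ (Fitt.sheafIdeal (Omega.sheaf f) 1).subschemeι ≫ f) := by
      rw [Category.assoc, hcomp, ← Spec.map_comp, ← CommRingCat.ofHom_comp, ← IsScalarTower.algebraMap_eq,
        HasRingHomProperty.Spec_iff (P := @FormallyUnramified)]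
      exact RingHom.formallyUnramified_algebraMap.2 inferInstance
    refine (Omega26.notMem_support_iff _ _).2 ⟨(a ≫ j').opensRange, ?_, ?_⟩
    · obtain ⟨v, hv⟩ : w ∈ Set.range (PrimeSpectrum.comap (algebraMap _ (Localization.Away r))) := by
        rw [PrimeSpectrum.localization_away_comap_range (Localization.Away r) r]; exact hmr
      exact ⟨v, by rw [Scheme.Hom.comp_apply]; exact congrArg j' hv⟩
    · rw [← (a ≫ j').isoOpensRange_inv_comp, Category.assoc]
      exact (MorphismProperty.cancel_left_of_respectsIso _ _ _).2 ha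
  · rintro ⟨hns, hci, hunr⟩
    have hle : Fitt.ideal T Ω[T⁄A] 1 ≤ m.asIdeal := hsupp.1 (not_not.1 fun h' => hns
      ((FitSmooth14.mem_smoothLocus_iff_notMem_support f 1 x (by exact_mod_cast hd)).2 h'))
    haveI : (m.asIdeal.map (Ideal.Quotient.mk (Fitt.ideal T Ω[T⁄A] 1))).IsPrime :=
      Ideal.map_isPrime_of_surjective Ideal.Quotient.mk_surjective (by rwa [Ideal.mk_ker])
    let w : Spec (CommRingCat.of (T ⧸ Fitt.ideal T Ω[T⁄A] 1)) :=
      ⟨m.asIdeal.map (Ideal.Quotient.mk _), inferInstance⟩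
    obtain ⟨W, hwW, hW⟩ := (Omega26.notMem_support_iff _ _).1 (hunr (j' w) (hz hle w rfl))
    obtain ⟨_, ⟨r, rfl⟩, hwr, hrW⟩ := PrimeSpectrum.isTopologicalBasis_basic_opens.exists_subset_of_mem_open
      (show w ∈ ((j' ⁻¹ᵁ W : (Spec (CommRingCat.of _)).Opens) : Set _) from hwW) (j' ⁻¹ᵁ W).isOpen
    have hunrAt : w ∈ Algebra.unramifiedLocus L (T ⧸ Fitt.ideal T Ω[T⁄A] 1) := by
      refine (Algebra.basicOpen_subset_unramifiedLocus_iff.2 ?_) hwr
      let a : Spec (CommRingCat.of (Localization.Away r)) ⟶ Spec (CommRingCat.of (T ⧸ Fitt.ideal T Ω[T⁄A] 1)) :=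
        Spec.map (CommRingCat.ofHom (algebraMap _ _))
      haveI : IsOpenImmersion a := IsOpenImmersion.of_isLocalization r
      have hrange : Set.range (a ≫ j') ⊆ Set.range W.ι := by
        rintro _ ⟨v, rfl⟩
        rw [Scheme.Opens.range_ι, Scheme.Hom.comp_apply]
        exact hrW ((PrimeSpectrum.localization_away_comap_range (Localization.Away r) r).le ⟨v, rfl⟩)
      have ha : FormallyUnramified ((a ≫ j') ≫ (Fitt.sheafIdeal (Omega.sheaf f) 1).subschemeι ≫ f) := by
        rw [← IsOpenImmersion.lift_fac W.ι (a ≫ j') hrange, Category.assoc]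
        exact MorphismProperty.comp_mem _ _ _ inferInstance hW
      rw [Category.assoc, hcomp, ← Spec.map_comp, ← CommRingCat.ofHom_comp, ← IsScalarTower.algebraMap_eq,
        HasRingHomProperty.Spec_iff (P := @FormallyUnramified)] at ha
      exact RingHom.formallyUnramified_algebraMap.1 ha
    have hfit := le_sup_sq_of_unramifiedAt _ m.asIdeal hle hunrAt
    let B := Localization.AtPrime m.asIdeal
    have hreg : ¬IsRegularLocalRing (X.presheaf.stalk x) := fun h =>
      hns ((Nodal27.mem_smoothLocus_iff_isRegular f hx).2 h)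
    haveI : IsNoetherianRing T := Algebra.FiniteType.isNoetherianRing L T
    haveI : IsNoetherianRing (CommRingCat.of T) := ‹IsNoetherianRing T›
    have eB : X.presheaf.stalk (j m) ≃+* B :=
      (@asIso _ _ _ _ (j.stalkMap (show ↥(Spec (CommRingCat.of T)) from m)) inferInstance ≪≫
        Spec.stalkIso (CommRingCat.of T) m).commRingCatIsoToRingEquiv
    rw [← hjm] at hci hreg
    have hciB : Pi1.IsCompleteIntersection B := (CI2.stalk_ci_iff j m).1 hci
    have hBnot : ¬IsRegularLocalRing B := fun h => hreg (IsRegularLocalRing.of_ringEquiv eB.symm)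
    have hdim : 1 ≤ ringKrullDim B := by
      rw [← ringKrullDim_eq_of_ringEquiv eB, hjm, ringKrullDim_stalk_of_isClosed f hx, hd]
    have hedim : 1 < (maximalIdeal B).spanFinrank := by
      by_contra hle1
      refine hBnot ((isRegularLocalRing_iff B).2 (le_antisymm ?_ ?_))
      · exact le_trans (by exact_mod_cast not_lt.1 hle1) hdim
      · exact ringKrullDim_le_spanFinrank_maximalIdeal B
    exact hodp.2 (nodeData_of_fitting hsurj m.asIdeal (exists_regular_of_ci hciB hdim) hedim hfit)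

omit [IsAlgClosed L] in
/-- A point over which the Fitting subscheme is unramified is closed or smooth. -/
theorem isClosed_of_singUnr (f : X ⟶ Spec (CommRingCat.of L)) [LocallyOfFiniteType f] [QuasiSeparated f]
    {x : X} (hd : FlatMor.localDim X x = 1) (hns : x ∉ f.smoothLocus) (h : SingUnr f x) :
    IsClosed ({x} : Set X) := by
  have hsupp : x ∈ (Fitt.sheafIdeal (Omega.sheaf f) 1).support := not_not.1 fun h' => hns
    ((FitSmooth14.mem_smoothLocus_iff_notMem_support f 1 x (by exact_mod_cast hd)).2 h')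
  obtain ⟨z, rfl⟩ : x ∈ Set.range (Fitt.sheafIdeal (Omega.sheaf f) 1).subschemeι := by
    rw [Scheme.IdealSheafData.range_subschemeι]; exact hsupp
  let g := (Fitt.sheafIdeal (Omega.sheaf f) 1).subschemeι ≫ f
  obtain ⟨W, hzW, hW⟩ := (Omega26.notMem_support_iff g z).1 (h z rfl)
  haveI : LocallyQuasiFinite (W.ι ≫ g) := EtBase.locallyQuasiFinite_of_formallyUnramified _
  haveI : JacobsonSpace (Fitt.sheafIdeal (Omega.sheaf f) 1).subscheme := LocallyOfFiniteType.jacobsonSpace g
  have hdisc : _root_.IsDiscrete ((W.ι ≫ g) ⁻¹' {(W.ι ≫ g) ⟨z, hzW⟩}) := (W.ι ≫ g).isDiscrete_preimage_singleton _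
  have huniv : (W.ι ≫ g) ⁻¹' {(W.ι ≫ g) ⟨z, hzW⟩} = Set.univ := Set.eq_univ_of_forall fun _ => Subsingleton.elim _ _
  rw [huniv, isDiscrete_univ_iff] at hdisc
  have hopen : IsOpen ({z} : Set (Fitt.sheafIdeal (Omega.sheaf f) 1).subscheme) := by
    rw [show ({z} : Set _) = W.ι '' {⟨z, hzW⟩} by rw [Set.image_singleton]; rfl]
    exact W.ι.isOpenEmbedding.isOpenMap _ (isOpen_discrete _)
  have := isClosed_singleton_of_isLocallyClosed_singleton hopen.isLocallyClosed
  rw [← Set.image_singleton]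
  exact (Fitt.sheafIdeal (Omega.sheaf f) 1).subschemeι.isClosedEmbedding.isClosedMap _ this

end Groth.Agent.NodalCrit14
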