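import Groth.Agent.Lib.H2Alg.PSHom

/-!
# Derivations at a generisation of a formal node `xy = u`
-/

set_option autoImplicit false
set_option linter.style.haveILetI false

universe u

open IsLocalRing MvPowerSeries

noncomputable section

namespace Groth.Agent.NodalCrit14

variable {Λ R D : Type u} [CommRing Λ] [IsLocalRing Λ] [CommRing R] [IsLocalRing R] [IsNoetherianRing R]
  (ι : Λ →+* R) (c : Λ)
  (e : AdicCompletion (maximalIdeal R) R ≃+* (MvPowerSeries (Fin 2) Λ ⧸ Ideal.span {X 0 * X 1 - C c}))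

theorem exists_node_approx (he : ∀ a, e (algebraMap R _ (ι a)) = Ideal.Quotient.mk _ (C a)) {n : ℕ} (hn : n ≠ 0) :
    ∃ g : Fin 2 → R, g 0 * g 1 - ι c ∈ maximalIdeal R ^ n ∧
      ∀ t : R, ∃ q : MvPolynomial (Fin 2) Λ, t - MvPolynomial.eval₂ ι g q ∈ maximalIdeal R ^ n := by
  let Φ : MvPowerSeries (Fin 2) Λ →+* R ⧸ maximalIdeal R ^ n :=
    (AdicCompletion.evalₐ (maximalIdeal R) n).toRingHom.comp
      (e.symm.toRingHom.comp (Ideal.Quotient.mk (Ideal.span {X 0 * X 1 - C c})))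
  have hC : ∀ a, Φ (C a) = Ideal.Quotient.mk _ (ι a) := fun a => by
    show AdicCompletion.evalₐ _ n (e.symm (Ideal.Quotient.mk _ (C a))) = _
    rw [← he, RingEquiv.symm_apply_apply, AlgHom.commutes]
    rfl
  have hsurj : Function.Surjective Φ := fun z => by
    obtain ⟨r, rfl⟩ := Ideal.Quotient.mk_surjective z
    obtain ⟨F, hF⟩ := Ideal.Quotient.mk_surjective (e (algebraMap R _ r))
    refine ⟨F, ?_⟩
    show AdicCompletion.evalₐ _ n (e.symm (Ideal.Quotient.mk _ F)) = _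
    rw [hF, RingEquiv.symm_apply_apply, AlgHom.commutes]
    rfl
  haveI : Nontrivial (R ⧸ maximalIdeal R ^ n) := Ideal.Quotient.nontrivial_iff.2 fun h =>
    (maximalIdeal.isMaximal R).ne_top (top_le_iff.1 (h ▸ Ideal.pow_le_self hn))
  haveI : IsLocalHom Φ := IsLocalHom.of_surjective Φ hsurj
  choose g hg using fun i => Ideal.Quotient.mk_surjective (Φ (X i))
  have hX : ∀ i, g i ∈ maximalIdeal R := fun i hu => by
    have h2 : IsUnit (X i : MvPowerSeries (Fin 2) Λ) := isUnit_of_map_unit Φ _ (hg i ▸ hu.map _)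
    rw [isUnit_iff_constantCoeff, constantCoeff_X] at h2
    exact not_isUnit_zero h2
  have hpoly : ∀ q : MvPolynomial (Fin 2) Λ,
      Φ (q : MvPowerSeries (Fin 2) Λ) = Ideal.Quotient.mk _ (MvPolynomial.eval₂ ι g q) := by
    intro q
    induction q using MvPolynomial.induction_on with
    | C a => rw [MvPolynomial.coe_C, hC, MvPolynomial.eval₂_C]
    | add a b ha hb => rw [MvPolynomial.coe_add, map_add, ha, hb, MvPolynomial.eval₂_add, map_add]
    | mul_X a i ha => rw [MvPolynomial.coe_mul, map_mul, ha, MvPolynomial.coe_X, ← hg, MvPolynomial.eval₂_mul,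
        MvPolynomial.eval₂_X, map_mul]
  refine ⟨g, ?_, fun t => ?_⟩
  · rw [← Ideal.Quotient.eq_zero_iff_mem, map_sub, map_mul, hg, hg, ← hC, ← map_mul, ← map_sub]
    show AdicCompletion.evalₐ _ n (e.symm (Ideal.Quotient.mk _ _)) = 0
    rw [Ideal.Quotient.eq_zero_iff_mem.2 (Ideal.subset_span (Set.mem_singleton (X 0 * X 1 - C c))), map_zero, map_zero]
  · obtain ⟨F, hF⟩ := hsurj (Ideal.Quotient.mk _ t)
    refine ⟨truncTotal n F, ?_⟩
    rw [← Ideal.Quotient.eq, ← hpoly, ← hF, ← sub_eq_zero, ← map_sub]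
    have hmem : F - ((truncTotal n F : MvPolynomial (Fin 2) Λ) : MvPowerSeries (Fin 2) Λ) ∈
        H2Alg.PSHom.V 2 Λ ^ n := H2Alg.PSHom.mem_pow fun d hd => by
      rw [map_sub, MvPolynomial.coeff_coe, coeff_truncTotal _ hd, sub_self]
    have h1 : (H2Alg.PSHom.V 2 Λ).map Φ ≤ (maximalIdeal R).map (Ideal.Quotient.mk (maximalIdeal R ^ n)) := by
      rw [H2Alg.PSHom.V, Ideal.map_span, Ideal.span_le]
      rintro _ ⟨_, ⟨i, rfl⟩, rfl⟩
      rw [← hg]
      exact Ideal.mem_map_of_mem _ (hX i)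
    have h2 : (H2Alg.PSHom.V 2 Λ ^ n).map Φ = ⊥ := le_bot_iff.1 (by
      rw [Ideal.map_pow]
      refine (Ideal.pow_right_mono h1 n).trans ?_
      rw [← Ideal.map_pow, Ideal.map_quotient_self])
    have := Ideal.mem_map_of_mem Φ hmem
    rwa [h2, Ideal.mem_bot] at this

variable [CommRing D] [IsDomain D] [IsLocalRing D] [IsNoetherianRing D]
  (π : R →+* D) (hπ : Function.Surjective π)

theorem map_mem_pow (hπ : Function.Surjective π) {n : ℕ} {a : R} (ha : a ∈ maximalIdeal R ^ n) :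
    π a ∈ maximalIdeal D ^ n := by
  rw [← IsLocalRing.map_maximalIdeal_of_surjective π hπ, ← Ideal.map_pow]
  exact Ideal.mem_map_of_mem π ha

include hπ in
theorem deriv_mem_pow (δ : R →+ D) (hδ : ∀ a b, δ (a * b) = π a * δ b + π b * δ a) :
    ∀ {n : ℕ} {a : R}, a ∈ maximalIdeal R ^ (n + 1) → δ a ∈ maximalIdeal D ^ n := by
  intro n
  induction n with
  | zero => intro a _; simp
  | succ n ih =>
    intro a ha
    rw [pow_succ] at ha
    refine Submodule.mul_induction_on ha (fun x hx y hy => ?_) fun x y hx hy => ?_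
    · rw [hδ]
      refine add_mem (Ideal.mul_mem_right _ _ (map_mem_pow π hπ hx)) ?_
      rw [pow_succ']
      exact Ideal.mul_mem_mul (by simpa using map_mem_pow π hπ (n := 1) (by simpa using hy)) (ih hx)
    · rw [map_add]; exact add_mem hx hy

/-- Two derivations along a generisation not over `c = 0` are dependent. -/
theorem deriv_det_eq_zero (he : ∀ a, e (algebraMap R _ (ι a)) = Ideal.Quotient.mk _ (C a))
    (hπ : Function.Surjective π) (hc : π (ι c) ≠ 0) (δ₁ δ₂ : R →+ D)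
    (h1 : ∀ a b, δ₁ (a * b) = π a * δ₁ b + π b * δ₁ a) (h2 : ∀ a b, δ₂ (a * b) = π a * δ₂ b + π b * δ₂ a)
    (k1 : ∀ a, δ₁ (ι a) = 0) (k2 : ∀ a, δ₂ (ι a) = 0) (t s : R) : δ₁ t * δ₂ s = δ₁ s * δ₂ t := by
  have key : ∀ n, π (ι c) * (δ₁ t * δ₂ s - δ₁ s * δ₂ t) ∈ maximalIdeal D ^ n := by
    intro n
    obtain ⟨g, hg, hq⟩ := exists_node_approx ι c e he (n := n + 1) (Nat.succ_ne_zero n)
    have lin : ∀ q : MvPolynomial (Fin 2) Λ, ∃ A B : D,
        δ₁ (MvPolynomial.eval₂ ι g q) = A * δ₁ (g 0) + B * δ₁ (g 1) ∧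
        δ₂ (MvPolynomial.eval₂ ι g q) = A * δ₂ (g 0) + B * δ₂ (g 1) := by
      intro q
      induction q using MvPolynomial.induction_on with
      | C a => exact ⟨0, 0, by simp [k1], by simp [k2]⟩
      | add a b ha hb =>
        obtain ⟨A, B, hA, hB⟩ := ha
        obtain ⟨A', B', hA', hB'⟩ := hb
        exact ⟨A + A', B + B', by rw [MvPolynomial.eval₂_add, map_add, hA, hA']; ring,
          by rw [MvPolynomial.eval₂_add, map_add, hB, hB']; ring⟩
      | mul_X a i ha =>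
        obtain ⟨A, B, hA, hB⟩ := ha
        fin_cases i
        · exact ⟨π (g 0) * A + π (MvPolynomial.eval₂ ι g a), π (g 0) * B,
            by rw [MvPolynomial.eval₂_mul, MvPolynomial.eval₂_X, h1]; simp only [Fin.zero_eta]; rw [hA]; ring,
            by rw [MvPolynomial.eval₂_mul, MvPolynomial.eval₂_X, h2]; simp only [Fin.zero_eta]; rw [hB]; ring⟩
        · exact ⟨π (g 1) * A, π (g 1) * B + π (MvPolynomial.eval₂ ι g a),
            by rw [MvPolynomial.eval₂_mul, MvPolynomial.eval₂_X, h1]; simp only [Fin.mk_one]; rw [hA]; ring,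
            by rw [MvPolynomial.eval₂_mul, MvPolynomial.eval₂_X, h2]; simp only [Fin.mk_one]; rw [hB]; ring⟩
    let Q := Ideal.Quotient.mk (maximalIdeal D ^ n)
    have q0 : ∀ {a : R}, a ∈ maximalIdeal R ^ (n + 1) → Q (π a) = 0 := fun ha => Ideal.Quotient.eq_zero_iff_mem.2
      (Ideal.pow_le_pow_right (Nat.le_succ n) (map_mem_pow π hπ ha))
    have q1 : ∀ (δ : R →+ D), (∀ a b, δ (a * b) = π a * δ b + π b * δ a) → ∀ {a : R},
        a ∈ maximalIdeal R ^ (n + 1) → Q (δ a) = 0 := fun δ hδ _ ha =>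
      Ideal.Quotient.eq_zero_iff_mem.2 (deriv_mem_pow π hπ δ hδ ha)
    obtain ⟨qt, hqt⟩ := hq t
    obtain ⟨qs, hqs⟩ := hq s
    obtain ⟨A, B, hA1, hA2⟩ := lin qt
    obtain ⟨A', B', hA1', hA2'⟩ := lin qs
    have et1 := q1 δ₁ h1 hqt
    have et2 := q1 δ₂ h2 hqt
    have es1 := q1 δ₁ h1 hqs
    have es2 := q1 δ₂ h2 hqs
    have eu := q0 hg
    have eg1 := q1 δ₁ h1 hg
    have eg2 := q1 δ₂ h2 hg
    simp only [map_sub, map_mul, map_add, h1, h2, k1, k2, hA1, hA2, hA1', hA2', sub_zero, map_zero]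
      at et1 et2 es1 es2 eu eg1 eg2
    rw [← Ideal.Quotient.eq_zero_iff_mem]
    show Q _ = 0
    simp only [map_sub, map_mul, map_add]
    rw [← sub_eq_zero] at *
    simp only [sub_zero] at *
    linear_combination (Q (π (ι c)) * Q (δ₂ s)) * et1 +
      (Q (π (ι c)) * (Q A * Q (δ₁ (g 0)) + Q B * Q (δ₁ (g 1)))) * es2 -
      (Q (π (ι c)) * Q (δ₂ t)) * es1 -
      (Q (π (ι c)) * (Q A' * Q (δ₁ (g 0)) + Q B' * Q (δ₁ (g 1)))) * et2 -
      ((Q A * Q B' - Q B * Q A') * (Q (δ₁ (g 0)) * Q (δ₂ (g 1)) - Q (δ₂ (g 0)) * Q (δ₁ (g 1)))) * eu +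
      ((Q A * Q B' - Q B * Q A') * Q (π (g 0))) * (Q (δ₂ (g 1)) * eg1 - Q (δ₁ (g 1)) * eg2)
  have h0 : π (ι c) * (δ₁ t * δ₂ s - δ₁ s * δ₂ t) = 0 := by
    refine IsHausdorff.haus (inferInstance : IsHausdorff (maximalIdeal D) D) _ fun n => ?_
    rw [SModEq.zero, smul_eq_mul, Ideal.mul_top]
    exact key n
  exact sub_eq_zero.1 ((mul_eq_zero.1 h0).resolve_left hc)

end Groth.Agent.NodalCrit14
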