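import Groth.Agent.Lib.NodalCrit14.Curve
import Groth.Agent.Lib.Nodal27.Families
import Groth.Agent.Lib.ConsH13.Apps
import Groth.Agent.Lib.FibDim14.Basic
import Groth.Agent.S2155
import Groth.Agent.S2863
import Groth.Agent.S9363
import Groth.Agent.Lib.ProdComp12.Basic

/-!
# Nodes of fibres through complete intersections and the Fitting subscheme
-/

set_option autoImplicit false
set_option linter.style.haveILetI false
set_option backward.isDefEq.respectTransparency.types false

universe u

open CategoryTheory CategoryTheory.Limits AlgebraicGeometry IsLocalRing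

noncomputable section

namespace Groth.Agent.NodalCrit14

variable {X S : Scheme.{u}} (f : X ⟶ S)

/-- The geometric point at `s`. -/
abbrev geomPt (s : S) : Spec (CommRingCat.of (AlgebraicClosure (S.residueField s))) ⟶ S :=
  Spec.map (CommRingCat.ofHom (algebraMap (S.residueField s) (AlgebraicClosure (S.residueField s)))) ≫
    S.fromSpecResidueField s

/-- Smooth at the point or a node of its fibre. -/
def GoodPt [LocallyOfFinitePresentation f] (p : X) : Prop :=
  p ∈ f.smoothLocus ∨ @Curv2.IsNode (S.residueField (f p)) _ (f.fiber (f p))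
    ⟨f.fiberToSpecResidueField (f p)⟩ (f.asFiber p)

/-- The geometric point over a field valued point. -/
abbrev barPt {k : Type u} [Field k] (j : Spec (CommRingCat.of k) ⟶ S) :
    Spec (CommRingCat.of (AlgebraicClosure k)) ⟶ S :=
  Spec.map (CommRingCat.ofHom (algebraMap k (AlgebraicClosure k))) ≫ j

theorem isNode_iff_bar [LocallyOfFiniteType f] {k : Type u} [Field k] (j : Spec (CommRingCat.of k) ⟶ S)
    (z : ↥(pullback f j)) (y : ↥(pullback f (barPt j)))
    (hinj : Function.Injective (pullback.fst f j))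
    (hy : pullback.fst f (barPt j) y = pullback.fst f j z) :
    @Curv2.IsNode k _ (pullback f j) ⟨pullback.snd f j⟩ z ↔
      IsClosed ({y} : Set ↥(pullback f (barPt j))) ∧ Nodal27.ODPAt (pullback.snd f (barPt j)) y := by
  letI : (pullback f j).Over (Spec (CommRingCat.of k)) := ⟨pullback.snd f j⟩
  haveI : LocallyOfFiniteType ((pullback f j) ↘ Spec (CommRingCat.of k)) :=
    inferInstanceAs (LocallyOfFiniteType (pullback.snd f j))
  let e := pullbackLeftPullbackSndIso f j (Spec.map (CommRingCat.ofHom (algebraMap k (AlgebraicClosure k))))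
  obtain ⟨yb, rfl⟩ : ∃ yb, e.hom yb = y :=
    ⟨e.inv y, by rw [← Scheme.Hom.comp_apply, e.inv_hom_id]; rfl⟩
  let yc : Curv2.bc k (pullback f j) (AlgebraicClosure k) := yb
  have hz : Curv2.bcFst k (pullback f j) (AlgebraicClosure k) yc = z := by
    refine hinj ?_
    rw [← hy, ← Scheme.Hom.comp_apply e.hom]
    simp only [e, pullbackLeftPullbackSndIso_hom_fst]
    rfl
  subst hz
  haveI : LocallyOfFiniteType (Curv2.bcSnd k (pullback f j) (AlgebraicClosure k)) :=
    inferInstanceAs (LocallyOfFiniteType (pullback.snd _ _))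
  rw [Nodal27.isNode_iff]
  have h1 : IsClosed ({e.hom yb} : Set ↥(pullback f (barPt j))) ↔ IsClosed ({yb} : Set _) :=
    ⟨fun h => Nodal27.isClosed_of_etale_of_isClosed e.hom (pullback.snd f (barPt j)) h,
      fun h => Nodal27.isClosed_image e.hom (pullback.snd f (barPt j)) h⟩
  have hcomp : e.hom ≫ pullback.snd f (barPt j) = Curv2.bcSnd k (pullback f j) (AlgebraicClosure k) :=
    pullbackLeftPullbackSndIso_hom_snd _ _ _
  have h3 : IsClosed ({Curv2.bcFst k (pullback f j) (AlgebraicClosure k) yc} : Set ↥(pullback f j)) ↔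
      IsClosed ({yb} : Set _) := (Nodal27.isClosed_bc_iff (pullback f j) k yc).symm
  rw [h1, h3]
  refine and_congr_right fun hc => ?_
  rw [← Nodal27.odpAt_etale_iff e.hom (pullback.snd f (barPt j)) hc, hcomp]
  exact ⟨fun ⟨_, hxb, ho⟩ => Nodal27.odpAt_conj (pullback f j) k hxb.symm ho,
    fun h => ⟨yc, rfl, h⟩⟩

theorem exists_bar {k : Type u} [Field k] (j : Spec (CommRingCat.of k) ⟶ S) (z : ↥(pullback f j)) :
    ∃ y : ↥(pullback f (barPt j)), pullback.fst f (barPt j) y = pullback.fst f j z := by
  haveI : Surjective (Spec.map (CommRingCat.ofHom (algebraMap k (AlgebraicClosure k)))) :=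
    ⟨Function.surjective_to_subsingleton (α := Spec (CommRingCat.of (AlgebraicClosure k)))
      (β := Spec (CommRingCat.of k)) _⟩
  haveI : Surjective (pullback.fst (pullback.snd f j) (Spec.map (CommRingCat.ofHom
    (algebraMap k (AlgebraicClosure k))))) := MorphismProperty.pullback_fst _ _ inferInstance
  obtain ⟨yb, hyb⟩ := (pullback.fst (pullback.snd f j) (Spec.map (CommRingCat.ofHom
    (algebraMap k (AlgebraicClosure k))))).surjective z
  refine ⟨(pullbackLeftPullbackSndIso f j _).hom yb, ?_⟩
  rw [← hyb, ← Scheme.Hom.comp_apply, ← Scheme.Hom.comp_apply]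
  exact congrArg (fun m : _ ⟶ X => m yb) (pullbackLeftPullbackSndIso_hom_fst f j
    (Spec.map (CommRingCat.ofHom (algebraMap k (AlgebraicClosure k)))))

theorem localDim_bar [LocallyOfFiniteType f] {k : Type u} [Field k] (j : Spec (CommRingCat.of k) ⟶ S)
    (y : ↥(pullback f (barPt j))) :
    ∃ z : ↥(pullback f j), pullback.fst f j z = pullback.fst f (barPt j) y ∧
      FlatMor.localDim ↥(pullback f (barPt j)) y = FlatMor.localDim ↥(pullback f j) z := by
  let σ := Spec.map (CommRingCat.ofHom (algebraMap k (AlgebraicClosure k)))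
  let e := pullbackLeftPullbackSndIso f j σ
  obtain ⟨yb, rfl⟩ : ∃ yb, e.hom yb = y :=
    ⟨e.inv y, by rw [← Scheme.Hom.comp_apply, e.inv_hom_id]; rfl⟩
  refine ⟨pullback.fst (pullback.snd f j) σ yb, ?_, ?_⟩
  · rw [← Scheme.Hom.comp_apply, ← Scheme.Hom.comp_apply]
    exact congrArg (fun m : _ ⟶ X => m yb) (pullbackLeftPullbackSndIso_hom_fst f j σ).symm
  · rw [← FibDim14.localDim_of_isOpenEmbedding e.hom.isOpenEmbedding yb,
      DimF18.localDim_bc (IsPullback.of_hasPullback (pullback.snd f j) σ) yb]

/-- The node condition of a fibre on a geometric fibre. -/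
theorem isNode_iff [LocallyOfFiniteType f] (s : S) (z : f.fiber s) (y : ↥(pullback f (geomPt s)))
    (hy : pullback.fst f (geomPt s) y = f.fiberι s z) :
    @Curv2.IsNode (S.residueField s) _ (f.fiber s) ⟨f.fiberToSpecResidueField s⟩ z ↔
      IsClosed ({y} : Set ↥(pullback f (geomPt s))) ∧ Nodal27.ODPAt (pullback.snd f (geomPt s)) y :=
  isNode_iff_bar f (k := S.residueField s) (S.fromSpecResidueField s) z y (f.fiberι s).isEmbedding.injective hy

theorem exists_geometric (s : S) (z : f.fiber s) :
    ∃ y : ↥(pullback f (geomPt s)), pullback.fst f (geomPt s) y = f.fiberι s z :=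
  exists_bar f (k := S.residueField s) (S.fromSpecResidueField s) z

theorem exists_geometric' (p : X) :
    ∃ y : ↥(pullback f (geomPt (f p))), pullback.fst f (geomPt (f p)) y = p := by
  obtain ⟨y, hy⟩ := exists_geometric f (f p) (f.asFiber p)
  exact ⟨y, hy.trans (f.fiberι_asFiber p)⟩

theorem localDim_fiber [LocallyOfFiniteType f] (s : S) (z : f.fiber s) :
    FlatMor.localDim (f.fiber s) z = FlatMor.fibreDimAt f (f.fiberι s z) := by
  rw [FibDim14.fibreDimAt_eq_localDim_preimage]
  have hs : f (f.fiberι s z) = s := (f.range_fiberι s).le ⟨z, rfl⟩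
  exact FibDim14.localDim_of_range (T := f ⁻¹' {f (f.fiberι s z)}) (f.fiberι s).isEmbedding
    (by rw [f.range_fiberι, hs]) z rfl rfl

theorem mem_smoothLocus_geometric_iff [Flat f] [LocallyOfFinitePresentation f] {S' : Scheme.{u}}
    (t : S' ⟶ S) (y : ↥(pullback f t)) :
    y ∈ (pullback.snd f t).smoothLocus ↔ pullback.fst f t y ∈ f.smoothLocus := by
  rw [S2155.result f t (pullback.snd f t) (pullback.fst f t) (IsPullback.of_hasPullback f t) (Or.inl inferInstance)]
  rfl

theorem ci_fiberStalk_field {K : Type u} [Field K] {Y : Scheme.{u}} (g : Y ⟶ Spec (CommRingCat.of K))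
    [LocallyOfFiniteType g] (y : Y) :
    Pi1.IsCompleteIntersection (CInt.fiberStalk g y) ↔ Pi1.IsCompleteIntersection (Y.presheaf.stalk y) := by
  haveI : IsIso ((Spec (CommRingCat.of K)).fromSpecResidueField (g y)) :=
    ConsH13.isIso_fromSpecResidueField_of_subsingleton _ _
  haveI : IsIso (g.fiberι (g y)) := inferInstanceAs (IsIso (pullback.fst _ _))
  haveI : IsLocallyNoetherian Y := LocallyOfFiniteType.isLocallyNoetherian g
  haveI : LocallyOfFiniteType (g.fiberToSpecResidueField (g y)) := inferInstanceAs (LocallyOfFiniteType (pullback.snd g _))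
  haveI : IsLocallyNoetherian (g.fiber (g y)) :=
    LocallyOfFiniteType.isLocallyNoetherian (g.fiberToSpecResidueField (g y))
  have key : ∀ w : Y, g.fiberι (g y) (g.asFiber y) = w →
      (Pi1.IsCompleteIntersection (CInt.fiberStalk g y) ↔ Pi1.IsCompleteIntersection (Y.presheaf.stalk w)) := by
    rintro w rfl
    let e := (asIso ((g.fiberι (g y)).stalkMap (g.asFiber y))).commRingCatIsoToRingEquiv
    exact ⟨S2169.isCI_congr e, S2169.isCI_congr e.symm⟩
  exact key y (g.fiberι_asFiber y)

theorem ci_geometric_iff [LocallyOfFiniteType f] {K : Type u} [Field K] (t : Spec (CommRingCat.of K) ⟶ S)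
    (y : ↥(pullback f t)) :
    Pi1.IsCompleteIntersection ((pullback f t).presheaf.stalk y) ↔
      Pi1.IsCompleteIntersection (CInt.fiberStalk f (pullback.fst f t y)) := by
  rw [← ci_fiberStalk_field (pullback.snd f t) y]
  exact CI2.ci_fiber_iff_baseChange f t _ _ (IsPullback.of_hasPullback f t) y

theorem localDim_geometric [LocallyOfFiniteType f] (s : S) (y : ↥(pullback f (geomPt s))) :
    FlatMor.localDim ↥(pullback f (geomPt s)) y = FlatMor.fibreDimAt f (pullback.fst f (geomPt s) y) := by
  obtain ⟨z, hz, hd⟩ := localDim_bar f (k := S.residueField s) (S.fromSpecResidueField s) y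
  refine hd.trans ?_
  rw [← hz]
  exact localDim_fiber f s z

theorem fibreDimAt_eq_one [LocallyOfFiniteType f]
    (hfib : ∀ s : S, ∀ Z ∈ irreducibleComponents (↥(f.fiber s) : Type u), topologicalKrullDim Z = 1) (p : X) :
    FlatMor.fibreDimAt f p = 1 := by
  haveI : LocallyOfFiniteType (f.fiberToSpecResidueField (f p)) := inferInstanceAs (LocallyOfFiniteType (pullback.snd f _))
  exact (Nodal27.components_iff (K := S.residueField (f p))
    (show f.fiber (f p) ⟶ Spec (CommRingCat.of (S.residueField (f p))) from f.fiberToSpecResidueField (f p))).1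
    (hfib (f p)) (f.asFiber p)

theorem components_of_fibreDimAt [LocallyOfFiniteType f] (h : ∀ p, FlatMor.fibreDimAt f p = 1) (s : S) :
    ∀ Z ∈ irreducibleComponents (↥(f.fiber s) : Type u), topologicalKrullDim Z = 1 := by
  haveI : LocallyOfFiniteType (f.fiberToSpecResidueField s) := inferInstanceAs (LocallyOfFiniteType (pullback.snd f _))
  refine (Nodal27.components_iff (K := S.residueField s)
    (show f.fiber s ⟶ Spec (CommRingCat.of (S.residueField s)) from f.fiberToSpecResidueField s)).2 fun z => ?_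
  rw [← h (f.fiberι s z)]
  exact localDim_fiber f s z

/-- Smooth at the point or closed node on a geometric fibre. -/
theorem goodPt_iff_geometric [Flat f] [LocallyOfFinitePresentation f] (p : X)
    (y : ↥(pullback f (geomPt (f p)))) (hy : pullback.fst f (geomPt (f p)) y = p) :
    GoodPt f p ↔ y ∈ (pullback.snd f (geomPt (f p))).smoothLocus ∨
      (IsClosed ({y} : Set ↥(pullback f (geomPt (f p)))) ∧ Nodal27.ODPAt (pullback.snd f (geomPt (f p))) y) := by
  rw [GoodPt, isNode_iff f (f p) (f.asFiber p) y (hy.trans (f.fiberι_asFiber p).symm),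
    mem_smoothLocus_geometric_iff, hy]

/-- The smooth points and the nodes of the fibres. -/
theorem goodPt_iff [Flat f] [LocallyOfFinitePresentation f] [QuasiSeparated f]
    (hdim : ∀ p, FlatMor.fibreDimAt f p = 1) (p : X) :
    GoodPt f p ↔ p ∈ f.smoothLocus ∨ (Pi1.IsCompleteIntersection (CInt.fiberStalk f p) ∧ SingUnr f p) := by
  obtain ⟨y, hy⟩ := exists_geometric' f p
  rw [goodPt_iff_geometric f p y hy, mem_smoothLocus_geometric_iff, hy]
  by_cases hs : p ∈ f.smoothLocus
  · simp only [hs, true_or]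
  simp only [hs, false_or]
  have hd : FlatMor.localDim ↥(pullback f (geomPt (f p))) y = 1 := by
    rw [localDim_geometric, hy]; exact hdim p
  have hns : y ∉ (pullback.snd f (geomPt (f p))).smoothLocus := by
    rwa [mem_smoothLocus_geometric_iff, hy]
  have hci := ci_geometric_iff f (geomPt (f p)) y
  have hsu := singUnr_iff_baseChange f (geomPt (f p)) y
  rw [hy] at hci hsu
  rw [← hci, ← hsu]
  constructor
  · rintro ⟨hc, ho⟩
    exact ((odpAt_iff _ hd hc).1 ho).2
  · rintro ⟨h1, h2⟩
    have hc := isClosed_of_singUnr _ hd hns h2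
    exact ⟨hc, (odpAt_iff _ hd hc).2 ⟨hns, h1, h2⟩⟩

/-- A fibre has at worst nodes iff all its points are good. -/
theorem good_iff_forall_goodPt [Flat f] [LocallyOfFinitePresentation f]
    (hdim : ∀ p, FlatMor.fibreDimAt f p = 1) (s : S) :
    Nodal27.Good (pullback.snd f (geomPt s)) ↔ ∀ p, f p = s → GoodPt f p := by
  constructor
  · rintro h p rfl
    obtain ⟨y, hy⟩ := exists_geometric' f p
    rw [goodPt_iff_geometric f p y hy]
    by_cases hc : IsClosed ({y} : Set ↥(pullback f (geomPt (f p))))
    · exact (h.2 y hc).imp_right fun ho => ⟨hc, ho⟩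
    · exact Or.inl (Nodal27.mem_smoothLocus_of_good _ h hc)
  · intro h
    refine ⟨fun y => by rw [localDim_geometric]; exact hdim _, fun y _ => ?_⟩
    have hps : f (pullback.fst f (geomPt s) y) = s := by
      rw [← Scheme.Hom.comp_apply, pullback.condition, Scheme.Hom.comp_apply, Scheme.Hom.comp_apply]
      exact Scheme.fromSpecResidueField_apply _ _
    obtain ⟨p, hp⟩ : ∃ p, pullback.fst f (geomPt s) y = p := ⟨_, rfl⟩
    rw [hp] at hps
    subst hps
    exact ((goodPt_iff_geometric f p y hp).1 (h p rfl)).imp_right And.right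

theorem isOpen_ci_singUnr [Flat f] [LocallyOfFinitePresentation f] [QuasiSeparated f] :
    IsOpen {p | p ∈ f.smoothLocus ∨ (Pi1.IsCompleteIntersection (CInt.fiberStalk f p) ∧ SingUnr f p)} :=
  f.smoothLocus.isOpen.union ((S2863.result f).1.inter (isOpen_singUnr f))

end Groth.Agent.NodalCrit14

namespace Groth.Agent.NodalCrit14

variable {X S : Scheme.{u}} (f : X ⟶ S)

theorem goodPt_iff_geometric' [Flat f] [LocallyOfFinitePresentation f] (p : X) (s : S) (hs : f p = s)
    (y : ↥(pullback f (geomPt s))) (hy : pullback.fst f (geomPt s) y = p) :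
    GoodPt f p ↔ y ∈ (pullback.snd f (geomPt s)).smoothLocus ∨
      (IsClosed ({y} : Set ↥(pullback f (geomPt s))) ∧ Nodal27.ODPAt (pullback.snd f (geomPt s)) y) := by
  subst hs; exact goodPt_iff_geometric f p y hy

/-- Good points are detected on open subschemes. -/
theorem goodPt_comp [Flat f] [LocallyOfFinitePresentation f] {U : Scheme.{u}} (j : U ⟶ X) [IsOpenImmersion j]
    (p : U) : GoodPt (j ≫ f) p ↔ GoodPt f (j p) := by
  obtain ⟨y, hy⟩ := exists_geometric' (j ≫ f) p
  let s := (j ≫ f) p
  let J : pullback (j ≫ f) (geomPt s) ⟶ pullback f (geomPt s) :=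
    pullback.lift (pullback.fst _ _ ≫ j) (pullback.snd _ _) (by rw [Category.assoc]; exact pullback.condition)
  have top : IsPullback (pullback.fst (j ≫ f) (geomPt s)) J j (pullback.fst f (geomPt s)) := by
    refine IsPullback.of_bot ?_ (pullback.lift_fst _ _ _).symm (IsPullback.of_hasPullback f (geomPt s))
    rw [pullback.lift_snd]
    exact IsPullback.of_hasPullback _ _
  haveI : IsOpenImmersion J := MorphismProperty.of_isPullback top.flip.flip inferInstance
  have hJ : J ≫ pullback.snd f (geomPt s) = pullback.snd (j ≫ f) (geomPt s) := pullback.lift_snd _ _ _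
  have hJy : pullback.fst f (geomPt s) (J y) = j p := by
    rw [← Scheme.Hom.comp_apply, pullback.lift_fst, Scheme.Hom.comp_apply]
    exact congrArg j hy
  rw [goodPt_iff_geometric (j ≫ f) p y hy, goodPt_iff_geometric' f (j p) s (Scheme.Hom.comp_apply j f p).symm (J y) hJy,
    mem_smoothLocus_geometric_iff, mem_smoothLocus_geometric_iff, hy, hJy,
    ← Scheme.Hom.preimage_smoothLocus_eq j f]
  refine or_congr Iff.rfl ⟨fun ⟨hc, ho⟩ => ?_, fun ⟨hc, ho⟩ => ?_⟩
  · refine ⟨Nodal27.isClosed_image J (pullback.snd f (geomPt s)) hc, ?_⟩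
    rw [← hJ] at ho
    exact (Nodal27.odpAt_etale_iff J _ hc).1 ho
  · have hc' := Nodal27.isClosed_of_etale_of_isClosed J (pullback.snd f (geomPt s)) hc
    refine ⟨hc', ?_⟩
    rw [← hJ]
    exact (Nodal27.odpAt_etale_iff J _ hc').2 ho

theorem fibreDimAt_comp [LocallyOfFiniteType f] {U : Scheme.{u}} (j : U ⟶ X) [IsOpenImmersion j] (p : U) :
    FlatMor.fibreDimAt (j ≫ f) p = FlatMor.fibreDimAt f (j p) := by
  obtain ⟨y, hy⟩ := exists_geometric' (j ≫ f) p
  let s := (j ≫ f) p
  let J : pullback (j ≫ f) (geomPt s) ⟶ pullback f (geomPt s) :=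
    pullback.lift (pullback.fst _ _ ≫ j) (pullback.snd _ _) (by rw [Category.assoc]; exact pullback.condition)
  have top : IsPullback (pullback.fst (j ≫ f) (geomPt s)) J j (pullback.fst f (geomPt s)) := by
    refine IsPullback.of_bot ?_ (pullback.lift_fst _ _ _).symm (IsPullback.of_hasPullback f (geomPt s))
    rw [pullback.lift_snd]
    exact IsPullback.of_hasPullback _ _
  haveI : IsOpenImmersion J := MorphismProperty.of_isPullback top.flip.flip inferInstance
  have hJy : pullback.fst f (geomPt s) (J y) = j p := by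
    rw [← Scheme.Hom.comp_apply, pullback.lift_fst, Scheme.Hom.comp_apply]
    exact congrArg j hy
  rw [← hy, ← localDim_geometric, hy, ← hJy, ← localDim_geometric]
  exact FibDim14.localDim_of_isOpenEmbedding J.isOpenEmbedding y

/-- The good points form an open set. -/
theorem isOpen_goodPt [Flat f] [LocallyOfFinitePresentation f] (hdim : ∀ p, FlatMor.fibreDimAt f p = 1) :
    IsOpen {p | GoodPt f p} := by
  refine isOpen_iff_forall_mem_open.2 fun p hp => ?_
  obtain ⟨U, hU, hpU, -⟩ := exists_isAffineOpen_mem_and_subset (X := X) (x := p) (U := ⊤) trivial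
  haveI : IsAffine (U : Scheme.{u}) := hU
  haveI : QuasiSeparated (U.ι ≫ f) := QuasiSeparated.of_comp (U.ι ≫ f) (terminal.from S)
  have h1 : IsOpen {q : (U : Scheme.{u}) | GoodPt (U.ι ≫ f) q} := by
    simp only [goodPt_iff (U.ι ≫ f) fun q => (fibreDimAt_comp f U.ι q).trans (hdim _)]
    exact isOpen_ci_singUnr (U.ι ≫ f)
  refine ⟨U.ι '' {q | GoodPt (U.ι ≫ f) q}, ?_, U.ι.isOpenEmbedding.isOpenMap _ h1,
    ⟨⟨p, hpU⟩, (goodPt_comp f U.ι ⟨p, hpU⟩).2 hp, rfl⟩⟩
  rintro _ ⟨q, hq, rfl⟩
  exact (goodPt_comp f U.ι q).1 hq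

theorem ci_of_goodPt [Flat f] [LocallyOfFinitePresentation f] [QuasiSeparated f]
    (hdim : ∀ p, FlatMor.fibreDimAt f p = 1) {p : X} (hp : GoodPt f p) :
    Pi1.IsCompleteIntersection (CInt.fiberStalk f p) := by
  rcases (goodPt_iff f hdim p).1 hp with hs | ⟨h, -⟩
  · obtain ⟨y, hy⟩ := exists_geometric' f p
    rw [← hy, ← ci_geometric_iff]
    haveI := FibDepth5.isRegular_of_mem_smoothLocus (pullback.snd f (geomPt (f p))) y
      ((mem_smoothLocus_geometric_iff f _ y).2 (by rw [hy]; exact hs))
    exact CI2.ci_of_regular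
  · exact h

theorem lfp_of_isSyntomicMor (h : Synt.IsSyntomicMor f) : LocallyOfFinitePresentation f := by
  rw [HasRingHomProperty.iff_appLE (P := @LocallyOfFinitePresentation)]
  intro V U e
  letI := (f.appLE V.1 U.1 e).hom.toAlgebra
  exact (RingHom.finitePresentation_algebraMap (A := Γ(S, V.1)) (B := Γ(X, U.1))).2
    ((S9363.result f).1 h U V e).2.1

end Groth.Agent.NodalCrit14
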