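import Groth.Agent.Lib.NodalCrit14.Quadratic
import Groth.Agent.Lib.Nodal27.QuadNode
import Groth.Agent.Lib.Nodal27.Point
import Groth.Agent.Lib.CIPic27.CI
import Groth.Agent.S9249
import Groth.Prelude.Def_Pi1

/-!
# Nodes from the Fitting ideal
-/

set_option autoImplicit false
set_option linter.style.haveILetI false

universe u

open IsLocalRing MvPolynomial

noncomputable section

namespace Groth.Agent.NodalCrit14

/-- A complete intersection local ring of positive dimension has a regular element in its maximal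
ideal. -/
theorem exists_regular_of_ci {B : Type u} [CommRing B] [IsLocalRing B] [IsNoetherianRing B]
    (h : Pi1.IsCompleteIntersection B) (hdim : 1 ≤ ringKrullDim B) :
    ∃ t ∈ maximalIdeal B, IsSMulRegular B t := by
  obtain ⟨R, _, _, rs, hm, hreg, ⟨e⟩⟩ := h
  have e' : AdicCompletion (maximalIdeal B) B ≃+* R ⧸ Ideal.ofList rs := e
  haveI := CIPic27.cm_quotient hm hreg.toIsWeaklyRegular
  let Q := R ⧸ Ideal.ofList rs
  let C := AdicCompletion (maximalIdeal B) B
  letI : Algebra Q C := e'.symm.toRingHom.toAlgebra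
  have hbij : Function.Bijective (algebraMap Q C) := e'.symm.bijective
  haveI : Module.Flat Q C :=
    Module.Flat.of_linearEquiv (AlgEquiv.ofBijective (Algebra.ofId Q C) hbij).toLinearEquiv.symm
  haveI : IsNoetherianRing C := isNoetherianRing_of_ringEquiv Q e'.symm
  haveI : IsLocalHom (algebraMap Q C) := hbij.2.isLocalHom
  haveI : LocCoh.IsCohenMacaulayLocalRing B :=
    (Groth.Agent.S9249.result B).2 ((Hens.isCohenMacaulay_iff_of_map_maximalIdeal Q C
      (IsLocalRing.map_maximalIdeal_of_surjective _ hbij.2)).2 inferInstance)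
  refine DepthLib.exists_isSMulRegular_of_one_le_idealDepth (DepthLib.smul_top_ne_top (maximalIdeal.isMaximal B).ne_top) ?_
  have h1 := LocCoh.IsCohenMacaulayLocalRing.supportDim_eq_depth (R := B)
  rw [Module.supportDim_self_eq_ringKrullDim] at h1
  rw [h1] at hdim
  exact WithBot.coe_le_coe.1 hdim

variable {K : Type u} [Field K] [IsAlgClosed K] {T : Type u} [CommRing T] [Algebra K T]

theorem maximalIdeal_le_of_gen (m : Ideal T) [m.IsMaximal] {S : Set T} (h : m ≤ Ideal.span S ⊔ m ^ 2) :
    maximalIdeal (Localization.AtPrime m) ≤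
      Ideal.span (algebraMap T (Localization.AtPrime m) '' S) ⊔ maximalIdeal (Localization.AtPrime m) ^ 2 := by
  conv_lhs => rw [← IsLocalization.AtPrime.map_eq_maximalIdeal m (Localization.AtPrime m)]
  refine (Ideal.map_mono h).trans ?_
  rw [Ideal.map_sup, Ideal.map_span, Ideal.map_pow, IsLocalization.AtPrime.map_eq_maximalIdeal m (Localization.AtPrime m)]

/-- At a point of embedding dimension at least two with a regular element in the maximal ideal, if
the first Fitting ideal of the differentials generates the maximal ideal then the point is a node. -/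
theorem nodeData_of_fitting [Algebra.FiniteType K T] {A : Type u} [CommRing A] [Algebra K A]
    [Algebra A T] [IsScalarTower K A T] (hA : Function.Surjective (algebraMap K A))
    (m : Ideal T) [m.IsMaximal]
    (hreg : ∃ t ∈ maximalIdeal (Localization.AtPrime m), IsSMulRegular (Localization.AtPrime m) t)
    (hedim : 1 < (maximalIdeal (Localization.AtPrime m)).spanFinrank)
    (hfit : m ≤ Fitt.ideal T Ω[T⁄A] 1 ⊔ m ^ 2) : Nodal27.NodeData K m := by
  obtain ⟨n, π, hπ⟩ := (Algebra.FiniteType.iff_quotient_mvPolynomial'' (R := K) (S := T)).1 inferInstance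
  haveI : IsNoetherianRing T := Algebra.FiniteType.isNoetherianRing K T
  letI : Field (T ⧸ m) := Ideal.Quotient.field m
  haveI : Algebra.FiniteType K (T ⧸ m) :=
    Algebra.FiniteType.of_surjective (Ideal.Quotient.mkₐ K m) (Ideal.Quotient.mkₐ_surjective K m)
  haveI : Module.Finite K (T ⧸ m) := finite_of_finite_type_of_isJacobsonRing _ _
  have hres : ∀ t : T, ∃ c : K, t - algebraMap K T c ∈ m := fun t => by
    obtain ⟨c, hc⟩ := (IsAlgClosed.algebraMap_bijective_of_isIntegral (k := K)).2 (Ideal.Quotient.mk m t)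
    exact ⟨c, by rw [← Ideal.Quotient.eq, ← hc]; rfl⟩
  obtain ⟨r, ⟨co⟩⟩ := exists_coords hres (IsNoetherian.noetherian m)
  have hgen : m ≤ Ideal.span (Set.range co.s) ⊔ m ^ 2 := fun x hx => by
    obtain ⟨a, ha⟩ := co.gen x hx
    refine Submodule.mem_sup.2 ⟨_, sum_mem fun k _ => ?_, _, ha, by abel⟩
    exact Submodule.smul_of_tower_mem _ _ (Ideal.subset_span ⟨k, rfl⟩)
  let B := Localization.AtPrime m
  have hgenB := maximalIdeal_le_of_gen m hgen
  have hr : 2 ≤ r := by
    by_contra hr
    have hle : maximalIdeal B ≤ Ideal.span (algebraMap T B '' Set.range co.s) :=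
      Submodule.le_of_le_smul_of_le_jacobson_bot (I := maximalIdeal B) (IsNoetherian.noetherian _)
        (IsLocalRing.jacobson_eq_maximalIdeal ⊥ bot_ne_top).ge (by rw [smul_eq_mul, ← pow_two]; exact hgenB)
    have heq : maximalIdeal B = Ideal.span (algebraMap T B '' Set.range co.s) :=
      le_antisymm hle (Ideal.span_le.2 (by
        rintro _ ⟨_, ⟨k, rfl⟩, rfl⟩
        exact (IsLocalization.AtPrime.to_map_mem_maximal_iff B m (co.s k)).2 (co.hs k)))
    have hfin : (algebraMap T B '' Set.range co.s).Finite := (Set.finite_range _).image _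
    have h1 := Submodule.spanFinrank_span_le_ncard_of_finite (R := B) (M := B) hfin
    have h2 : (algebraMap T B '' Set.range co.s).ncard ≤ r :=
      (Set.ncard_image_le (Set.finite_range _)).trans (by
        rw [← Set.image_univ]
        exact (Set.ncard_image_le Set.finite_univ).trans (by simp))
    rw [show maximalIdeal (Localization.AtPrime m) = Ideal.span (algebraMap T B '' Set.range co.s) from heq] at hedim
    have h3 : (Ideal.span (algebraMap T B '' Set.range co.s)).spanFinrank ≤ r := h1.trans h2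
    omega
  obtain ⟨ap⟩ := exists_approxHom co π hres
  have hm : m ≠ ⊤ := Ideal.IsPrime.ne_top'
  have hI : m ≤ ap.I ^ (r - 1) ⊔ m ^ 2 :=
    hfit.trans (sup_le (ap.fitting_le hA hπ hm hr) le_sup_right)
  obtain rfl : r = 2 := by
    by_contra hne
    have hIm : ap.I ≤ m := Ideal.span_le.2 (by rintro _ ⟨g, k, hg, rfl⟩; exact ap.G_mem hg hm k)
    have hsq : m ≤ m ^ 2 := hI.trans (sup_le
      ((Ideal.pow_right_mono hIm _).trans (Ideal.pow_le_pow_right (by omega))) le_rfl)
    have := co.indep (Pi.single ⟨0, by omega⟩ 1) (by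
      simpa [Finset.sum_eq_single (⟨0, by omega⟩ : Fin r)] using hsq (co.hs ⟨0, by omega⟩))
    simpa using congrFun this ⟨0, by omega⟩
  obtain ⟨a, b, d, hd, hq⟩ := exists_nondegenerate ap hres hm (by simpa using hI)
  let o := algebraMap T B
  have ho : ∀ {x : T}, x ∈ m → o x ∈ maximalIdeal B := fun hx =>
    (IsLocalization.AtPrime.to_map_mem_maximal_iff B m _).2 hx
  have hgen2 : maximalIdeal B ≤ Ideal.span {o (co.s 0), o (co.s 1)} ⊔ maximalIdeal B ^ 2 := by
    refine hgenB.trans (sup_le_sup_right (Ideal.span_le.2 ?_) _)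
    rintro _ ⟨_, ⟨k, rfl⟩, rfl⟩
    fin_cases k
    · exact Ideal.subset_span (Or.inl rfl)
    · exact Ideal.subset_span (Or.inr rfl)
  have hqB : algebraMap K B a * o (co.s 0) ^ 2 + algebraMap K B b * o (co.s 0) * o (co.s 1) +
      algebraMap K B d * o (co.s 1) ^ 2 ∈ maximalIdeal B ^ 3 := by
    have h1 := Ideal.mem_map_of_mem o hq
    rw [Ideal.map_pow, IsLocalization.AtPrime.map_eq_maximalIdeal m B] at h1
    simpa [o, IsScalarTower.algebraMap_apply K T B] using h1
  obtain ⟨X', Y', hX', hY', hgen', hXY⟩ :=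
    Nodal27.exists_product (ho (co.hs 0)) (ho (co.hs 1)) hgen2 hd hqB
  have hresB : ∀ x : B, ∃ c : K, x - algebraMap K B c ∈ maximalIdeal B := fun x => by
    obtain ⟨⟨y, s⟩, hys⟩ := IsLocalization.surj m.primeCompl x
    obtain ⟨cy, hy⟩ := hres y
    obtain ⟨cs, hs⟩ := hres s.1
    have hcs : cs ≠ 0 := fun h0 => s.2 (by simpa [h0] using hs)
    refine ⟨cy / cs, ?_⟩
    have hy' := ho hy
    have hs' := ho hs
    simp only [o, map_sub, ← IsScalarTower.algebraMap_apply] at hy' hs'
    have key : algebraMap K B cs * (x - algebraMap K B (cy / cs)) =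
        (o y - algebraMap K B cy) - x * (o s.1 - algebraMap K B cs) := by
      rw [mul_sub, mul_sub, ← map_mul, mul_div_cancel₀ _ hcs, ← hys]
      ring
    have hu : IsUnit (algebraMap K B cs) := (Ne.isUnit hcs).map _
    rw [← Ideal.unit_mul_mem_iff_mem _ hu, key]
    exact sub_mem hy' (Ideal.mul_mem_left _ _ hs')
  obtain ⟨t, ht, htr⟩ := hreg
  exact (Nodal27.nodeData_localization_iff (K := K) m B).2 (Nodal27.isOrdDoublePt_iff.1
    (Nodal27.ordDoublePt_of_data hresB ht htr hedim hX' hY' hgen' hXY))

end Groth.Agent.NodalCrit14
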