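import Groth.Agent.Lib.NodalCrit14.Geom
import Groth.Agent.S8660
import Groth.Agent.S9758
import Groth.Agent.S9367
import Groth.Agent.Lib.FibDim14.BaseChange

/-!
# The locus of at worst nodal points of relative dimension one
-/

set_option autoImplicit false
set_option linter.style.haveILetI false
set_option backward.isDefEq.respectTransparency.types false

universe u

open CategoryTheory CategoryTheory.Limits AlgebraicGeometry IsLocalRing

noncomputable section

namespace Groth.Agent.NodalCrit14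

variable {X S : Scheme.{u}} (f : X ⟶ S)

/-- Smooth or nodal point of a fibre of dimension one. -/
def NodalPt [LocallyOfFinitePresentation f] (p : X) : Prop :=
  GoodPt f p ∧ FlatMor.fibreDimAt f p = 1

theorem ci_of_odpAt {L : Type u} [Field L] [IsAlgClosed L] {Y : Scheme.{u}} (g : Y ⟶ Spec (CommRingCat.of L)) {y : Y}
    (h : Nodal27.ODPAt g y) : Pi1.IsCompleteIntersection (Y.presheaf.stalk y) := by
  letI : Y.Over (Spec (CommRingCat.of L)) := ⟨g⟩
  letI := Curv2.stalkAlgebra L Y y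
  exact ci_of_isOrdDoublePt (K := L) (Nodal27.isOrdDoublePt_of_nodeData h)

theorem ci_of_good [Flat f] [LocallyOfFinitePresentation f] {p : X} (hp : GoodPt f p) :
    Pi1.IsCompleteIntersection (CInt.fiberStalk f p) := by
  obtain ⟨y, hy⟩ := exists_geometric' f p
  rw [← hy, ← ci_geometric_iff]
  rcases (goodPt_iff_geometric f p y hy).1 hp with hs | ⟨-, ho⟩
  · haveI := FibDepth5.isRegular_of_mem_smoothLocus (pullback.snd f (geomPt (f p))) y hs
    exact CI2.ci_of_regular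
  · exact ci_of_odpAt _ ho

theorem nodalPt_comp [Flat f] [LocallyOfFinitePresentation f] {U : Scheme.{u}} (j : U ⟶ X) [IsOpenImmersion j]
    (p : U) : NodalPt (j ≫ f) p ↔ NodalPt f (j p) := by
  rw [NodalPt, NodalPt, goodPt_comp, fibreDimAt_comp]

/-- Complete intersection points of fibres of dimension one. -/
def CIOne (p : X) : Prop :=
  Pi1.IsCompleteIntersection (CInt.fiberStalk f p) ∧ FlatMor.fibreDimAt f p = 1

theorem ci_comp [Flat f] [LocallyOfFinitePresentation f] {U : Scheme.{u}} (j : U ⟶ X) [IsOpenImmersion j]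
    (p : U) : Pi1.IsCompleteIntersection (CInt.fiberStalk (j ≫ f) p) ↔
      Pi1.IsCompleteIntersection (CInt.fiberStalk f (j p)) := by
  obtain ⟨y, hy⟩ := exists_geometric' (j ≫ f) p
  let t := geomPt ((j ≫ f) p)
  let J : pullback (j ≫ f) t ⟶ pullback f t :=
    pullback.lift (pullback.fst _ _ ≫ j) (pullback.snd _ _) (by rw [Category.assoc]; exact pullback.condition)
  have top : IsPullback (pullback.fst (j ≫ f) t) J j (pullback.fst f t) := by
    refine IsPullback.of_bot ?_ (pullback.lift_fst _ _ _).symm (IsPullback.of_hasPullback f t)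
    rw [pullback.lift_snd]
    exact IsPullback.of_hasPullback _ _
  haveI : IsOpenImmersion J := MorphismProperty.of_isPullback top.flip.flip inferInstance
  have hJy : pullback.fst f t (J y) = j p := by
    rw [← Scheme.Hom.comp_apply, pullback.lift_fst, Scheme.Hom.comp_apply]
    exact congrArg j hy
  rw [← hy, ← ci_geometric_iff, hy, ← hJy, ← ci_geometric_iff]
  let e := (asIso (J.stalkMap y)).commRingCatIsoToRingEquiv
  exact ⟨S2169.isCI_congr e, S2169.isCI_congr e.symm⟩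

theorem isOpen_ciOne [Flat f] [LocallyOfFinitePresentation f] : IsOpen {p | CIOne f p} := by
  let W : X.Opens := ⟨_, (S2863.result f).1⟩
  have hW : CInt.IsCIMorphism (W.ι ≫ f) :=
    ⟨inferInstance, inferInstance, fun p => (ci_comp f W.ι p).2 p.2⟩
  have hs : Synt.IsSyntomicMor (W.ι ≫ f) :=
    (S9758.result (W.ι ≫ f)).1 ⟨inferInstance, (S8660.result (W.ι ≫ f)).2 hW⟩
  have hopen : IsOpen {q : (W : Scheme.{u}) | FlatMor.fibreDimAt (W.ι ≫ f) q = 1} :=
    (S9367.result (W.ι ≫ f) hs).isOpen_fiber _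
  have heq : {p | CIOne f p} = W.ι '' {q : (W : Scheme.{u}) | FlatMor.fibreDimAt (W.ι ≫ f) q = 1} := by
    ext p
    constructor
    · rintro ⟨h1, h2⟩
      exact ⟨⟨p, h1⟩, (fibreDimAt_comp f W.ι ⟨p, h1⟩).trans h2, rfl⟩
    · rintro ⟨q, hq, rfl⟩
      exact ⟨q.2, (fibreDimAt_comp f W.ι q).symm.trans hq⟩
  rw [heq]
  exact W.ι.isOpenEmbedding.isOpenMap _ hopen

theorem ciOne_of_nodalPt [Flat f] [LocallyOfFinitePresentation f] {p : X} (hp : NodalPt f p) : CIOne f p :=
  ⟨ci_of_good f hp.1, hp.2⟩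

theorem exists_affine_ciOne [Flat f] [LocallyOfFinitePresentation f] {p : X} (hp : CIOne f p) :
    ∃ U : X.Opens, IsAffineOpen U ∧ p ∈ U ∧ ∀ q : (U : Scheme.{u}), FlatMor.fibreDimAt (U.ι ≫ f) q = 1 := by
  obtain ⟨U, hU, hpU, hUD⟩ :=
    exists_isAffineOpen_mem_and_subset (X := X) (x := p) (U := ⟨_, isOpen_ciOne f⟩) hp
  exact ⟨U, hU, hpU, fun q => (fibreDimAt_comp f U.ι q).trans (hUD q.2).2⟩

theorem isOpen_nodalPt [Flat f] [LocallyOfFinitePresentation f] : IsOpen {p | NodalPt f p} := by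
  refine isOpen_iff_forall_mem_open.2 fun p hp => ?_
  obtain ⟨U, hU, hpU, hd⟩ := exists_affine_ciOne f (ciOne_of_nodalPt f hp)
  refine ⟨U.ι '' {q | GoodPt (U.ι ≫ f) q}, ?_, U.ι.isOpenEmbedding.isOpenMap _ (isOpen_goodPt (U.ι ≫ f) hd),
    ⟨⟨p, hpU⟩, (goodPt_comp f U.ι ⟨p, hpU⟩).2 hp.1, rfl⟩⟩
  rintro _ ⟨q, hq, rfl⟩
  exact (nodalPt_comp f U.ι q).1 ⟨hq, hd q⟩

theorem goodPt_bc_affine [Flat f] [LocallyOfFinitePresentation f] [QuasiSeparated f]
    (hd : ∀ p, FlatMor.fibreDimAt f p = 1) {S' : Scheme.{u}} (t : S' ⟶ S) (y : ↥(pullback f t)) :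
    GoodPt (pullback.snd f t) y ↔ GoodPt f (pullback.fst f t y) := by
  have hd' : ∀ z, FlatMor.fibreDimAt (pullback.snd f t) z = 1 := fun z =>
    (FibDim14.fibreDimAt_baseChange (IsPullback.of_hasPullback f t) z).trans (hd _)
  rw [goodPt_iff _ hd', goodPt_iff f hd, mem_smoothLocus_geometric_iff f t y, singUnr_iff_baseChange f t y]
  refine or_congr Iff.rfl (and_congr ?_ Iff.rfl)
  exact CI2.ci_fiber_iff_baseChange f t _ _ (IsPullback.of_hasPullback f t) y

theorem nodalPt_bc [Flat f] [LocallyOfFinitePresentation f] {X' S' : Scheme.{u}} {g : S' ⟶ S}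
    {q : X' ⟶ X} {h : X' ⟶ S'} [Flat h] [LocallyOfFinitePresentation h] (sq : IsPullback q h f g) (y : X') :
    NodalPt h y ↔ NodalPt f (q y) := by
  have hdim := FibDim14.fibreDimAt_baseChange sq y
  by_cases hy : Pi1.IsCompleteIntersection (CInt.fiberStalk h y) ∧ FlatMor.fibreDimAt h y = 1
  swap
  · refine iff_of_false (fun hn => hy (ciOne_of_nodalPt h hn)) fun hn => hy ?_
    obtain ⟨h1, h2⟩ := ciOne_of_nodalPt f hn
    exact ⟨(CI2.ci_fiber_iff_baseChange f g q h sq y).2 h1, hdim.trans h2⟩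
  have hp : CIOne f (q y) := ⟨(CI2.ci_fiber_iff_baseChange f g q h sq y).1 hy.1, hdim.symm.trans hy.2⟩
  obtain ⟨U, hU, hpU, hd⟩ := exists_affine_ciOne f hp
  haveI : IsAffine (U : Scheme.{u}) := hU
  haveI : QuasiSeparated (U.ι ≫ f) := QuasiSeparated.of_comp (U.ι ≫ f) (terminal.from S)
  let V : X'.Opens := q ⁻¹ᵁ U
  have sqV : IsPullback (q ∣_ U) (V.ι ≫ h) (U.ι ≫ f) g :=
    IsPullback.paste_vert (isPullback_morphismRestrict q U) sq
  let J : pullback (U.ι ≫ f) g ⟶ X' := sqV.isoPullback.inv ≫ V.ι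
  have hJf : q (J (sqV.isoPullback.hom ⟨y, hpU⟩)) = q y := by
    congr 1
    show (sqV.isoPullback.hom ≫ sqV.isoPullback.inv ≫ V.ι) (⟨y, hpU⟩ : V) = y
    rw [Iso.hom_inv_id_assoc]; rfl
  have hJh : J ≫ h = pullback.snd (U.ι ≫ f) g := by
    rw [Category.assoc]; exact sqV.isoPullback_inv_snd
  have hJy : J (sqV.isoPullback.hom ⟨y, hpU⟩) = y := by
    show (sqV.isoPullback.hom ≫ sqV.isoPullback.inv ≫ V.ι) (⟨y, hpU⟩ : V) = y
    rw [Iso.hom_inv_id_assoc]; rfl
  obtain ⟨z, hz⟩ : ∃ z, sqV.isoPullback.hom ⟨y, hpU⟩ = z := ⟨_, rfl⟩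
  rw [hz] at hJy
  have hq : U.ι (pullback.fst (U.ι ≫ f) g z) = q y := by
    rw [← hJy, ← Scheme.Hom.comp_apply, ← Scheme.Hom.comp_apply]
    refine congrArg (fun m : _ ⟶ X => m z) ?_
    rw [← sqV.isoPullback_inv_fst, Category.assoc, morphismRestrict_ι, Category.assoc]
  have key := goodPt_bc_affine (U.ι ≫ f) hd g z
  rw [NodalPt, NodalPt, hdim, ← hq, ← goodPt_comp f U.ι, ← key, ← hJy, ← goodPt_comp h J]
  simp only [hJh]

theorem isNodalFamily_iff :
    Curv2.IsNodalFamily f ↔ ∃ (_ : Flat f) (_ : LocallyOfFinitePresentation f), ∀ p, NodalPt f p := by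
  constructor
  · rintro ⟨h1, h2, h3⟩
    have hd := fibreDimAt_eq_one f fun s => (h3 s).1
    exact ⟨h1, h2, fun p => ⟨(good_iff_forall_goodPt f hd (f p)).1 ((Nodal27.fibre_iff f (f p)).1 (h3 _)) p rfl, hd p⟩⟩
  · rintro ⟨h1, h2, h3⟩
    exact ⟨h1, h2, fun s => (Nodal27.fibre_iff f s).2
      ((good_iff_forall_goodPt f (fun p => (h3 p).2) s).2 fun p _ => (h3 p).1)⟩

theorem isNodalFamily_restrict_iff [Flat f] [LocallyOfFinitePresentation f] (U : X.Opens) :
    Curv2.IsNodalFamily (U.ι ≫ f) ↔ ∀ p ∈ U, NodalPt f p := by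
  rw [isNodalFamily_iff]
  constructor
  · rintro ⟨_, _, h⟩ p hp
    exact (nodalPt_comp f U.ι ⟨p, hp⟩).1 (h ⟨p, hp⟩)
  · exact fun h => ⟨inferInstance, inferInstance, fun q => (nodalPt_comp f U.ι q).2 (h q.1 q.2)⟩

end Groth.Agent.NodalCrit14
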