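import Groth.Agent.Lib.NodalCrit14.Locus
import Groth.Agent.Lib.CurvOpen16.Loci
import Groth.Agent.Lib.GrpUnr20.Basic

/-!
# The nodal points of relative dimension one form an open locus
-/

set_option autoImplicit false
set_option linter.style.haveILetI false
set_option backward.isDefEq.respectTransparency.types false

universe u

open CategoryTheory CategoryTheory.Limits AlgebraicGeometry

noncomputable section

namespace Groth.Agent.NodalCrit14

variable {A B C : Scheme.{u}}

theorem goodPt_etale_comp {A' : Scheme.{u}} (e : A' ⟶ A) [Etale e] (h : A ⟶ B) [Flat h]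
    [LocallyOfFinitePresentation h] (p : A') : GoodPt (e ≫ h) p ↔ GoodPt h (e p) := by
  obtain ⟨y, hy⟩ := exists_geometric' (e ≫ h) p
  let t := geomPt ((e ≫ h) p)
  let J : pullback (e ≫ h) t ⟶ pullback h t :=
    pullback.lift (pullback.fst _ _ ≫ e) (pullback.snd _ _) (by rw [Category.assoc]; exact pullback.condition)
  have top : IsPullback (pullback.fst (e ≫ h) t) J e (pullback.fst h t) := by
    refine IsPullback.of_bot ?_ (pullback.lift_fst _ _ _).symm (IsPullback.of_hasPullback h t)
    rw [pullback.lift_snd]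
    exact IsPullback.of_hasPullback _ _
  haveI : Etale J := MorphismProperty.of_isPullback top.flip.flip inferInstance
  have hJ : J ≫ pullback.snd h t = pullback.snd (e ≫ h) t := pullback.lift_snd _ _ _
  have hJy : pullback.fst h t (J y) = e p := by
    rw [← Scheme.Hom.comp_apply, pullback.lift_fst, Scheme.Hom.comp_apply]
    exact congrArg e hy
  rw [goodPt_iff_geometric (e ≫ h) p y hy,
    goodPt_iff_geometric' h (e p) ((e ≫ h) p) (Scheme.Hom.comp_apply e h p).symm (J y) hJy,
    mem_smoothLocus_geometric_iff, mem_smoothLocus_geometric_iff, hy, hJy,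
    ← SmoothPt12.smoothPt_iff_mem, ← SmoothPt12.smoothPt_iff_mem]
  refine or_congr (CurvOpen16.isOpenLocus_smoothPt.precomp e h p) ⟨fun ⟨hc, ho⟩ => ?_, fun ⟨hc, ho⟩ => ?_⟩
  · refine ⟨Nodal27.isClosed_image J (pullback.snd h t) hc, ?_⟩
    rw [← hJ] at ho
    exact (Nodal27.odpAt_etale_iff J _ hc).1 ho
  · have hc' := Nodal27.isClosed_of_etale_of_isClosed J (pullback.snd h t) hc
    refine ⟨hc', ?_⟩
    rw [← hJ]
    exact (Nodal27.odpAt_etale_iff J _ hc').2 ho

/-- The nodal locus of relative dimension one, for arbitrary morphisms. -/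
def NPt (h : A ⟶ B) (a : A) : Prop :=
  ∀ [LocallyOfFinitePresentation h], NodalPt h a

theorem nPt_iff (h : A ⟶ B) [LocallyOfFinitePresentation h] (a : A) : NPt h a ↔ NodalPt h a :=
  ⟨fun H => H, fun H => H⟩

theorem nPt_postcomp (h : A ⟶ B) (c : B ⟶ C) [Etale c] [Flat h] [LocallyOfFinitePresentation h] (a : A) :
    NodalPt (h ≫ c) a ↔ NodalPt h a := by
  let J : A ⟶ pullback (h ≫ c) c := pullback.lift (𝟙 A) h (Category.id_comp _)
  haveI : Etale (pullback.fst (h ≫ c) c) := MorphismProperty.pullback_fst _ _ inferInstance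
  haveI : IsOpenImmersion J := GrpUnr20.isOpenImmersion_section (pullback.fst (h ≫ c) c) J (pullback.lift_fst _ _ _)
  have h1 := nodalPt_comp (pullback.snd (h ≫ c) c) J a
  have h2 := nodalPt_bc (h ≫ c) (IsPullback.of_hasPullback (h ≫ c) c) (J a)
  have h3 : pullback.fst (h ≫ c) c (J a) = a := by
    rw [← Scheme.Hom.comp_apply, pullback.lift_fst]; rfl
  rw [h3] at h2
  rw [← h2, ← h1]
  have hJ : J ≫ pullback.snd (h ≫ c) c = h := pullback.lift_snd _ _ _
  simp only [hJ]

theorem isOpenLocus_nPt : CurvOpen16.IsOpenLocus (fun {A B : Scheme.{u}} (h : A ⟶ B) a => NPt h a) where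
  isOpen h _ _ := by simp only [nPt_iff]; exact isOpen_nodalPt h
  bc h _ _ h' q g hsq a' := by
    haveI : Flat h' := MorphismProperty.of_isPullback hsq inferInstance
    haveI : LocallyOfFinitePresentation h' := MorphismProperty.of_isPullback hsq inferInstance
    rw [nPt_iff, nPt_iff]
    exact nodalPt_bc h hsq a'
  precomp e h _ _ _ a' := by
    rw [nPt_iff, nPt_iff, NodalPt, NodalPt, goodPt_etale_comp, FibDim14.fibreDimAt_etale_comp e h a']
  postcomp h c _ _ _ a := by
    rw [nPt_iff, nPt_iff]
    exact nPt_postcomp h c a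

end Groth.Agent.NodalCrit14
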