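import Groth.Agent.Lib.NodalSing14.Alg
import Mathlib.LinearAlgebra.Matrix.Basis
import Mathlib.LinearAlgebra.Dimension.Finite
import Mathlib.LinearAlgebra.Basis.VectorSpace

/-!
# The Fitting ideal of the differentials at a point and the quadratic terms of the equations

If the maximal ideal of a rational point is generated by the first Fitting ideal of the differentials
then the cotangent space is two-dimensional and carries a nondegenerate quadratic relation.
-/

set_option autoImplicit false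
set_option linter.style.haveILetI false

universe u

open MvPolynomial Matrix
open Groth.Agent.Nodal27 (ptIdeal)

noncomputable section

namespace Groth.Agent.NodalCrit14

theorem det_mem_pow {A : Type*} [CommRing A] {ι : Type*} [Fintype ι] [DecidableEq ι] (I : Ideal A)
    (C : Matrix ι ι A) (S : Finset ι) (i0 : ι) (h : ∀ i, i ≠ i0 → ∀ j ∈ S, C i j ∈ I) :
    C.det ∈ I ^ (S.card - 1) := by
  rw [Matrix.det_apply']
  refine sum_mem fun σ _ => Ideal.mul_mem_left _ _ ?_
  rw [← Finset.prod_sdiff (Finset.subset_univ (S.erase (σ.symm i0)))]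
  refine Ideal.mul_mem_left _ _ ?_
  have hle : I ^ (S.erase (σ.symm i0)).card ≤ I ^ (S.card - 1) :=
    Ideal.pow_le_pow_right (Finset.pred_card_le_card_erase)
  refine hle ?_
  have := Ideal.prod_mem_prod (s := S.erase (σ.symm i0)) (I := fun _ => I) (x := fun i => C (σ i) i)
    fun i hi => h _ (fun he => (Finset.mem_erase.1 hi).1 (by rw [← he, Equiv.symm_apply_apply]))
      _ (Finset.mem_erase.1 hi).2
  rwa [Finset.prod_const] at this

variable {K : Type u} [Field K] {n r : ℕ} {T : Type u} [CommRing T] [Algebra K T]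

/-- The rows of the Jacobian matrix. -/
def grad (π : MvPolynomial (Fin n) K →ₐ[K] T) (g : MvPolynomial (Fin n) K) : Fin n → T :=
  fun i => π (pderiv i g)

theorem rel_le_span_grad {A : Type u} [CommRing A] [Algebra K A] [Algebra A T] [IsScalarTower K A T]
    (hA : Function.Surjective (algebraMap K A))
    (π : MvPolynomial (Fin n) K →ₐ[K] T) (hπ : Function.Surjective π) :
    FittingLib.rel (fun i => KaehlerDifferential.D A T (π (X i))) ≤
      Submodule.span T {v | ∃ g, π g = 0 ∧ v = grad π g} := by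
  let N : Submodule T (Fin n → T) := Submodule.span T {v | ∃ g, π g = 0 ∧ v = grad π g}
  let δ : T → (Fin n → T) ⧸ N := fun t => Submodule.Quotient.mk (grad π (Function.surjInv hπ t))
  have hδ : ∀ g, δ (π g) = Submodule.Quotient.mk (grad π g) := fun g => by
    refine (Submodule.Quotient.eq N).2 (Submodule.subset_span ⟨Function.surjInv hπ (π g) - g, ?_, ?_⟩)
    · rw [map_sub, Function.surjInv_eq hπ, sub_self]
    · funext i; simp [grad]
  let d : Derivation A T ((Fin n → T) ⧸ N) := Derivation.mk'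
    { toFun := δ
      map_add' := fun a b => by
        obtain ⟨a, rfl⟩ := hπ a
        obtain ⟨b, rfl⟩ := hπ b
        rw [← map_add, hδ, hδ, hδ, ← Submodule.Quotient.mk_add]
        congr 1
        funext i; simp [grad]
      map_smul' := fun a t => by
        obtain ⟨a, rfl⟩ := hA a
        obtain ⟨t, rfl⟩ := hπ t
        simp only [RingHom.id_apply]
        rw [← algebraMap_smul T (algebraMap K A a) (π t), ← algebraMap_smul T (algebraMap K A a) (δ (π t)),
          ← IsScalarTower.algebraMap_apply, smul_eq_mul, ← π.commutes, ← map_mul, hδ, hδ,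
          ← Submodule.Quotient.mk_smul]
        congr 1
        funext i
        simp [grad, MvPolynomial.algebraMap_eq] }
    fun a b => by
      obtain ⟨a, rfl⟩ := hπ a
      obtain ⟨b, rfl⟩ := hπ b
      show δ (π a * π b) = π a • δ (π b) + π b • δ (π a)
      rw [← map_mul, hδ, hδ, hδ, ← Submodule.Quotient.mk_smul, ← Submodule.Quotient.mk_smul,
        ← Submodule.Quotient.mk_add]
      congr 1
      funext i
      simp only [grad, pderiv_mul, map_add, map_mul, Pi.add_apply, Pi.smul_apply, smul_eq_mul]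
      ring
  intro v hv
  have h1 := congrArg d.liftKaehlerDifferential (FittingLib.mem_rel.1 hv)
  simp only [map_sum, map_smul, map_zero, Derivation.liftKaehlerDifferential_comp_D] at h1
  refine (Submodule.Quotient.mk_eq_zero N).1 (Eq.trans ?_ h1)
  conv_lhs => rw [pi_eq_sum_univ' v]
  rw [← Submodule.mkQ_apply, map_sum]
  refine Finset.sum_congr rfl fun i _ => ?_
  rw [map_smul]
  congr 1
  refine Eq.trans ?_ (hδ (X i)).symm
  rw [Submodule.mkQ_apply]
  congr 1
  funext j
  by_cases hij : j = i <;> simp [grad, hij]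

/-- Independent generators of `P` modulo `P ^ 2`. -/
structure Coords (K : Type u) [Field K] {T : Type u} [CommRing T] [Algebra K T] (P : Ideal T) (r : ℕ) where
  s : Fin r → T
  hs : ∀ k, s k ∈ P
  indep : ∀ a : Fin r → K, ∑ k, a k • s k ∈ P ^ 2 → a = 0
  gen : ∀ x ∈ P, ∃ a : Fin r → K, x - ∑ k, a k • s k ∈ P ^ 2

theorem exists_coords {P : Ideal T} (hres : ∀ t : T, ∃ c : K, t - algebraMap K T c ∈ P) (hP : P.FG) :
    ∃ r, Nonempty (Coords K P r) := by
  let q := (Ideal.Quotient.mkₐ K (P ^ 2)).toLinearMap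
  let W : Submodule K (T ⧸ P ^ 2) := (P.restrictScalars K).map q
  obtain ⟨G, hG⟩ := hP
  have hW : W = Submodule.span K (q '' (G : Set T)) := by
    refine le_antisymm ?_ (Submodule.span_le.2 ?_)
    · rintro _ ⟨x, hx, rfl⟩
      have hx' : x ∈ Submodule.span T (G : Set T) := hG.ge hx
      clear hx
      induction hx' using Submodule.span_induction with
      | mem x hx => exact Submodule.subset_span ⟨x, hx, rfl⟩
      | zero => rw [map_zero]; exact zero_mem _
      | add x y _ _ ihx ihy => rw [map_add]; exact add_mem ihx ihy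
      | smul t x hx ih =>
        obtain ⟨c, hc⟩ := hres t
        have h1 : q (t • x) = c • q x := by
          rw [← map_smul]
          refine Ideal.Quotient.eq.2 ?_
          rw [pow_two, smul_eq_mul, Algebra.smul_def, ← sub_mul]
          exact Ideal.mul_mem_mul hc (hG.le hx)
        rw [h1]
        exact Submodule.smul_mem _ c ih
    · rintro _ ⟨x, hx, rfl⟩
      exact ⟨x, hG.le (Submodule.subset_span hx), rfl⟩
  haveI : Module.Finite K W := Module.Finite.iff_fg.2
    (hW ▸ Submodule.fg_span (Set.Finite.image _ G.finite_toSet))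
  let b := Module.finBasis K W
  choose s hs hs' using fun k => (b k).2
  refine ⟨_, ⟨⟨s, hs, fun a ha => ?_, fun x hx => ?_⟩⟩⟩
  · have h0 : ∑ k, a k • b k = 0 := Subtype.ext (by
      simp only [Submodule.coe_sum, Submodule.coe_smul, Submodule.coe_zero, ← hs', ← map_smul, ← map_sum]
      exact Ideal.Quotient.eq_zero_iff_mem.2 ha)
    exact funext (Fintype.linearIndependent_iff.1 b.linearIndependent a h0)
  · refine ⟨fun k => b.repr ⟨q x, ⟨x, hx, rfl⟩⟩ k, Ideal.Quotient.eq.1 ?_⟩
    show q x = q _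
    have h0 := congrArg Subtype.val (b.sum_repr ⟨q x, ⟨x, hx, rfl⟩⟩)
    simp only [Submodule.coe_sum, Submodule.coe_smul, ← hs', ← map_smul, ← map_sum] at h0
    exact h0.symm

variable {P : Ideal T} (co : Coords K P r)

/-- The substitution of the coordinates. -/
abbrev Coords.rho : MvPolynomial (Fin r) K →ₐ[K] T := MvPolynomial.aeval co.s

theorem rho_mem {d : ℕ} {q : MvPolynomial (Fin r) K} (hq : q ∈ ptIdeal (0 : Fin r → K) ^ d) : co.rho q ∈ P ^ d := by
  have hle : (ptIdeal (0 : Fin r → K)).map co.rho ≤ P := by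
    rw [ptIdeal, Ideal.map_span, Ideal.span_le]
    rintro _ ⟨_, ⟨i, rfl⟩, rfl⟩
    simpa using co.hs i
  exact Ideal.pow_right_mono hle d (by rw [← Ideal.map_pow]; exact Ideal.mem_map_of_mem _ hq)

theorem exists_approx {x : T} (hx : x ∈ P) :
    ∃ q ∈ ptIdeal (0 : Fin r → K), co.rho q - x ∈ P ^ 3 := by
  have hlin : ∀ y ∈ P, ∃ q ∈ ptIdeal (0 : Fin r → K), co.rho q - y ∈ P ^ 2 := fun y hy => by
    obtain ⟨a, ha⟩ := co.gen y hy
    refine ⟨∑ k, a k • X k, sum_mem fun k _ => Submodule.smul_of_tower_mem _ _ ?_, ?_⟩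
    · exact Ideal.subset_span ⟨k, by simp⟩
    · simpa [neg_mem_iff] using neg_mem ha
  have hsq : ∀ y ∈ P ^ 2, ∃ q ∈ ptIdeal (0 : Fin r → K), co.rho q - y ∈ P ^ 3 := fun y hy => by
    rw [pow_two] at hy
    refine Submodule.mul_induction_on hy (fun a ha b hb => ?_) fun a b ⟨p, hp, hp'⟩ ⟨q, hq, hq'⟩ => ?_
    · obtain ⟨p, hp, hp'⟩ := hlin a ha
      obtain ⟨q, hq, hq'⟩ := hlin b hb
      refine ⟨p * q, Ideal.mul_mem_right _ _ hp, ?_⟩
      rw [map_mul, show co.rho p * co.rho q - a * b = (co.rho p - a) * b + co.rho p * (co.rho q - b) by ring,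
        show (3 : ℕ) = 2 + 1 from rfl]
      refine add_mem ?_ ?_
      · rw [pow_succ]; exact Ideal.mul_mem_mul hp' hb
      · rw [pow_succ']; exact Ideal.mul_mem_mul (by simpa using rho_mem co (d := 1) (by simpa using hp)) hq'
    · exact ⟨p + q, add_mem hp hq, by rw [map_add, add_sub_add_comm]; exact add_mem hp' hq'⟩
  obtain ⟨q, hq, hq'⟩ := hlin x hx
  obtain ⟨q', hq1, hq2⟩ := hsq _ hq'
  exact ⟨q - q', sub_mem hq hq1, by rw [map_sub, sub_right_comm]; simpa [neg_mem_iff] using neg_mem hq2⟩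

theorem exists_lin {h : MvPolynomial (Fin r) K} (h0 : co.rho h ∈ P ^ 2) (hP : P ≠ ⊤) :
    h ∈ ptIdeal (0 : Fin r → K) ^ 2 := by
  let a : Fin r → K := fun k => eval 0 (pderiv k h)
  have ht := Nodal27.taylor_mem (0 : Fin r → K) h
  have hsum : ∑ k, C (a k) * (X k - C ((0 : Fin r → K) k)) = ∑ k, a k • (X k : MvPolynomial (Fin r) K) := by
    simp [C_mul']
  change h - C (eval 0 h) - ∑ k, C (a k) * (X k - C ((0 : Fin r → K) k)) ∈ _ at ht
  rw [hsum] at ht
  have h1 := rho_mem co ht
  simp only [map_sub, map_sum, map_smul, aeval_C, aeval_X] at h1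
  have hsP : ∑ k, a k • co.s k ∈ P := sum_mem fun k _ => Submodule.smul_of_tower_mem _ _ (co.hs k)
  have hc : eval 0 h = 0 := by
    by_contra hne
    refine hP (Ideal.eq_top_of_isUnit_mem _ ?_ ((Ne.isUnit hne).map (algebraMap K T)))
    have h2 := P.sub_mem (P.sub_mem (Ideal.pow_le_self two_ne_zero h0) (Ideal.pow_le_self two_ne_zero h1)) hsP
    convert h2 using 1
    ring
  have ha : a = 0 := co.indep a (by
    have h2 := (P ^ 2).sub_mem h0 h1
    convert h2 using 1
    rw [hc, map_zero]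
    ring)
  simpa only [hc, ha, map_zero, sub_zero, Pi.zero_apply, zero_smul, Finset.sum_const_zero] using ht

/-- A substitution `X j ↦ q j` that agrees with `π` modulo `P ^ 3`. -/
structure Approx (π : MvPolynomial (Fin n) K →ₐ[K] T) {P : Ideal T} (co : Coords K P r) where
  ψ : MvPolynomial (Fin n) K →ₐ[K] MvPolynomial (Fin r) K
  agree : ∀ g, co.rho (ψ g) - π g ∈ P ^ 3

theorem exists_approxHom (π : MvPolynomial (Fin n) K →ₐ[K] T)
    (hres : ∀ t : T, ∃ c : K, t - algebraMap K T c ∈ P) : Nonempty (Approx π co) := by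
  choose c hc using fun j => hres (π (X j))
  choose q _ hq using fun j => exists_approx co (hc j)
  let ψ : MvPolynomial (Fin n) K →ₐ[K] MvPolynomial (Fin r) K := aeval fun j => C (c j) + q j
  have h : (Ideal.Quotient.mkₐ K (P ^ 3)).comp (co.rho.comp ψ) = (Ideal.Quotient.mkₐ K (P ^ 3)).comp π :=
    MvPolynomial.algHom_ext fun j => Ideal.Quotient.eq.2 (by
      simpa [ψ, sub_sub_eq_add_sub, add_comm] using hq j)
  exact ⟨⟨ψ, fun g => Ideal.Quotient.eq.1 (AlgHom.congr_fun h g)⟩⟩

theorem pderiv_hom (ψ : MvPolynomial (Fin n) K →ₐ[K] MvPolynomial (Fin r) K) (k : Fin r)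
    (g : MvPolynomial (Fin n) K) :
    pderiv k (ψ g) = ∑ j, ψ (pderiv j g) * pderiv k (ψ (X j)) := by
  induction g using MvPolynomial.induction_on with
  | C a => rw [← MvPolynomial.algebraMap_eq, ψ.commutes]; simp [MvPolynomial.algebraMap_eq]
  | add p q hp hq => simp only [map_add, hp, hq, add_mul, Finset.sum_add_distrib]
  | mul_X p i hp =>
    rw [map_mul, pderiv_mul, hp, Finset.sum_mul]
    simp only [pderiv_mul, pderiv_X, map_add, map_mul, add_mul, Finset.sum_add_distrib]
    congr 1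
    · exact Finset.sum_congr rfl fun j _ => by ring
    · rw [Finset.sum_eq_single i (fun j _ hj => by simp [Ne.symm hj]) (by simp)]
      simp

variable {co} {π : MvPolynomial (Fin n) K →ₐ[K] T} (ap : Approx π co)

/-- The Jacobian of the substitution. -/
def Approx.N (j : Fin n) (k : Fin r) : T := co.rho (pderiv k (ap.ψ (X j)))

/-- The coordinate components of a row. -/
def Approx.G (g : MvPolynomial (Fin n) K) (k : Fin r) : T := ∑ j, π (pderiv j g) * ap.N j k

theorem Approx.G_sub_mem (g : MvPolynomial (Fin n) K) (k : Fin r) :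
    co.rho (pderiv k (ap.ψ g)) - ap.G g k ∈ P ^ 3 := by
  rw [pderiv_hom, map_sum, Approx.G, ← Finset.sum_sub_distrib]
  exact sum_mem fun j _ => by
    rw [map_mul, Approx.N, ← sub_mul]
    exact Ideal.mul_mem_right _ _ (ap.agree _)

theorem Approx.ψ_mem_sq {g : MvPolynomial (Fin n) K} (hg : π g = 0) (hP : P ≠ ⊤) :
    ap.ψ g ∈ ptIdeal (0 : Fin r → K) ^ 2 :=
  exists_lin co (Ideal.pow_le_pow_right (by norm_num : 2 ≤ 3) (by simpa [hg] using ap.agree g)) hP

theorem Approx.G_mem {g : MvPolynomial (Fin n) K} (hg : π g = 0) (hP : P ≠ ⊤) (k : Fin r) : ap.G g k ∈ P := by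
  have h1 := rho_mem co (Nodal27.pderiv_pow_mem (0 : Fin r → K) k 1 (ap.ψ_mem_sq hg hP))
  rw [pow_one] at h1
  simpa using P.sub_mem h1 (Ideal.pow_le_self three_ne_zero (ap.G_sub_mem g k))

/-- The ideal of the components of all relations. -/
def Approx.I : Ideal T := Ideal.span {z | ∃ g k, π g = 0 ∧ z = ap.G g k}

/-- An invertible matrix modulo `P` whose columns on a set are the Jacobian of the substitution. -/
theorem Approx.exists_matrix (hπ : Function.Surjective π) (hP : P ≠ ⊤) :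
    ∃ (M : Matrix (Fin n) (Fin n) T) (σ : Fin r ↪ Fin n) (d : K), d ≠ 0 ∧
      M.det - algebraMap K T d ∈ P ∧ ∀ j k, M j (σ k) = ap.N j k := by
  classical
  let α : Fin r → Fin n → K := fun k j => eval 0 (pderiv k (ap.ψ (X j)))
  have hα : LinearIndependent K α := by
    rw [Fintype.linearIndependent_iff]
    intro a ha l
    obtain ⟨g, hg⟩ := hπ (co.s l)
    have hsq : ap.ψ g - X l ∈ ptIdeal (0 : Fin r → K) ^ 2 := exists_lin co (by
      rw [map_sub, MvPolynomial.aeval_X, ← hg]
      exact Ideal.pow_le_pow_right (by norm_num : 2 ≤ 3) (ap.agree g)) hP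
    have hkl : ∀ k, ∑ j, eval 0 (ap.ψ (pderiv j g)) * α k j = if k = l then 1 else 0 := fun k => by
      have h1 := Nodal27.pderiv_pow_mem (0 : Fin r → K) k 1 hsq
      rw [pow_one] at h1
      have h2 := Nodal27.eval_eq_zero (0 : Fin r → K) h1
      rw [map_sub, map_sub, pderiv_hom, sub_eq_zero, map_sum] at h2
      simp only [map_mul] at h2
      rw [h2]
      simp [pderiv_X, Pi.single_apply, eq_comm]
    have h3 := congrArg (fun v => ∑ j, eval 0 (ap.ψ (pderiv j g)) * v j) ha
    simp only [Finset.sum_apply, Pi.smul_apply, smul_eq_mul, Pi.zero_apply, mul_zero, Finset.sum_const_zero,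
      Finset.mul_sum] at h3
    rw [Finset.sum_comm] at h3
    simp only [mul_left_comm _ (a _), ← Finset.mul_sum, hkl] at h3
    simpa using h3
  let b := Module.Basis.sumExtend hα
  haveI := Fintype.ofFinite (Fin r ⊕ ↑(hα.linearIndepOn_id.extend (Set.subset_univ (Set.range α)) \ Set.range α))
  let e := b.indexEquiv (Pi.basisFun K (Fin n))
  let b' := b.reindex e
  let σ : Fin r ↪ Fin n := ⟨fun k => e (Sum.inl k), fun x y h => Sum.inl_injective (e.injective h)⟩
  let M0 : Matrix (Fin n) (Fin n) K := (Pi.basisFun K (Fin n)).toMatrix b'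
  have hσ : ∀ j k, M0 j (σ k) = α k j := fun j k => by
    have h1 : b' (σ k) = α k := by
      rw [Module.Basis.reindex_apply]
      show b (e.symm (e (Sum.inl k))) = _
      rw [Equiv.symm_apply_apply]
      simp [b, Module.Basis.sumExtend]
      rfl
    rw [← h1]
    rfl
  let M : Matrix (Fin n) (Fin n) T := Matrix.of fun j i =>
    if h : ∃ k, σ k = i then ap.N j h.choose else algebraMap K T (M0 j i)
  have hM : ∀ j k, M j (σ k) = ap.N j k := fun j k => by
    simp only [M, Matrix.of_apply, dif_pos (⟨k, rfl⟩ : ∃ k', σ k' = σ k)]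
    congr 1
    exact σ.injective (Exists.choose_spec (⟨k, rfl⟩ : ∃ k', σ k' = σ k))
  refine ⟨M, σ, M0.det, ?_, Ideal.Quotient.eq.1 ?_, hM⟩
  · letI := (Pi.basisFun K (Fin n)).invertibleToMatrix b'
    exact (Matrix.isUnit_det_of_invertible M0).ne_zero
  · rw [RingHom.map_det, ← RingHom.comp_apply (Ideal.Quotient.mk P) (algebraMap K T), RingHom.map_det]
    congr 1
    refine Matrix.ext fun j i => ?_
    simp only [RingHom.mapMatrix_apply, Matrix.map_apply, RingHom.comp_apply]
    refine Ideal.Quotient.eq.2 ?_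
    by_cases h : ∃ k, σ k = i
    · obtain ⟨k, rfl⟩ := h
      rw [hM, hσ, Approx.N]
      have h1 := Nodal27.sub_eval_mem (0 : Fin r → K) (pderiv k (ap.ψ (X j)))
      have h2 := rho_mem co (d := 1) (by simpa using h1)
      simpa [α] using h2
    · simp only [M, Matrix.of_apply, dif_neg h, sub_self]
      exact zero_mem _

theorem Approx.fitting_le {A : Type u} [CommRing A] [Algebra K A] [Algebra A T] [IsScalarTower K A T]
    (hA : Function.Surjective (algebraMap K A)) (hπ : Function.Surjective π) (hP : P ≠ ⊤) (hr : 2 ≤ r) :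
    Fitt.ideal T Ω[T⁄A] 1 ≤ ap.I ^ (r - 1) ⊔ P ^ 2 := by
  classical
  obtain ⟨M, σ, d, hd, hdet, hM⟩ := ap.exists_matrix hπ hP
  have hx : Submodule.span T (Set.range fun i => KaehlerDifferential.D A T (π (X i))) = ⊤ := by
    rw [eq_top_iff, ← KaehlerDifferential.span_range_derivation A T, Submodule.span_le]
    rintro _ ⟨y, rfl⟩
    obtain ⟨g, rfl⟩ := hπ y
    rw [← NodalSing14.derivation_comp (A := A) π g]
    exact sum_mem fun i _ => Submodule.smul_mem _ _ (Submodule.subset_span ⟨i, rfl⟩)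
  rw [FittingLib.ideal_eq_J _ hx]
  refine FittingLib.J_le_of_forall _ (rel_le_span_grad hA π hπ) fun B S hS hB _ => ?_
  obtain ⟨i0, hi0⟩ : ∃ i0, ∀ i, i ≠ i0 → i ∉ S := by
    rcases S.eq_empty_or_nonempty with rfl | ⟨i0, hi0⟩
    · exact ⟨σ ⟨0, by omega⟩, fun i _ => Finset.notMem_empty i⟩
    · exact ⟨i0, fun i hi hiS => hi (Finset.card_le_one.1 hS i hiS i0 hi0)⟩
  have h1 : B.det * M.det ∈ ap.I ^ (r - 1) := by
    rw [← Matrix.det_mul]
    have := det_mem_pow ap.I (B * M) (Finset.univ.map σ) i0 fun i hi j hj => by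
      obtain ⟨g, hg, hBi⟩ := hB i (hi0 i hi)
      obtain ⟨k, -, rfl⟩ := Finset.mem_map.1 hj
      rw [Matrix.mul_apply]
      simp only [hBi, hM, grad]
      exact Ideal.subset_span ⟨g, k, hg, rfl⟩
    simpa using this
  -- `M.det` is invertible modulo `P ^ 2`
  let u := algebraMap K T d⁻¹
  let ε := M.det * u - 1
  have hε : ε ∈ P := by
    have : ε = (M.det - algebraMap K T d) * u := by
      simp only [ε, u, sub_mul, ← map_mul, mul_inv_cancel₀ hd, map_one]
    rw [this]
    exact Ideal.mul_mem_right _ _ hdet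
  have : B.det = B.det * M.det * (u * (1 - ε)) + B.det * (ε * ε) := by simp only [ε]; ring
  rw [this]
  exact Submodule.add_mem_sup (Ideal.mul_mem_right _ _ h1)
    (Ideal.mul_mem_left _ _ (by rw [pow_two]; exact Ideal.mul_mem_mul hε hε))

/-- Degenerate forms with degenerate sums have proportional gradients. -/
theorem gradients_dependent {a b c a' b' c' : K} (h : 4 * a * c - b ^ 2 = 0) (h' : 4 * a' * c' - b' ^ 2 = 0)
    (hs : 4 * (a + a') * (c + c') - (b + b') ^ 2 = 0) :
    2 * a * b' - b * (2 * a') = 0 ∧ 2 * a * (2 * c') - b * b' = 0 ∧ b * b' - 2 * c * (2 * a') = 0 ∧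
      b * (2 * c') - 2 * c * b' = 0 := by
  have key : ∀ x : K, x * x = 0 → x = 0 := fun x hx => mul_self_eq_zero.1 hx
  have e : b * b' = 2 * a * c' + 2 * a' * c := by
    by_cases h2 : (2 : K) = 0
    · have hb : b = 0 := key _ (by linear_combination -h + (2 * a * c) * h2)
      simp [hb, h2]
    · exact mul_left_cancel₀ h2 (by linear_combination h + h' - hs)
  refine ⟨key _ ?_, key _ ?_, key _ ?_, key _ ?_⟩
  · linear_combination (-4 * a' ^ 2) * h + (-4 * a ^ 2) * h' + (-8 * a * a') * e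
  · linear_combination (-4 * a' * c') * h + (-b ^ 2) * h' + (-8 * a * c') * e
  · linear_combination (-4 * a' * c') * h + (-b ^ 2) * h' + (-8 * a' * c) * e
  · linear_combination (-4 * c' ^ 2) * h + (-4 * c ^ 2) * h' + (-8 * c * c') * e

theorem exists_quad_coeff {h : MvPolynomial (Fin 2) K} (hh : h ∈ ptIdeal (0 : Fin 2 → K) ^ 2) :
    ∃ a b c : K, h - (C a * X 0 ^ 2 + C b * (X 0 * X 1) + C c * X 1 ^ 2) ∈ ptIdeal (0 : Fin 2 → K) ^ 3 := by
  have hX : ∀ i, (X i : MvPolynomial (Fin 2) K) ∈ ptIdeal (0 : Fin 2 → K) := fun i =>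
    Ideal.subset_span ⟨i, by simp⟩
  have hspan : ptIdeal (0 : Fin 2 → K) = Ideal.span {X 0, X 1} := by
    refine le_antisymm (Ideal.span_le.2 ?_) (Ideal.span_le.2 ?_)
    · rintro _ ⟨i, rfl⟩
      fin_cases i <;> simpa using Ideal.subset_span (by simp)
    · rintro _ (rfl | rfl) <;> exact hX _
  rw [pow_two] at hh
  nth_rewrite 2 [hspan] at hh
  obtain ⟨p, hp, q, hq, rfl⟩ : ∃ p ∈ ptIdeal (0 : Fin 2 → K), ∃ q ∈ ptIdeal (0 : Fin 2 → K), p * X 0 + q * X 1 = h := by
    refine Submodule.mul_induction_on hh (fun x hx y hy => ?_) ?_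
    · obtain ⟨u, v, rfl⟩ := Ideal.mem_span_pair.1 hy
      exact ⟨x * u, Ideal.mul_mem_right _ _ hx, x * v, Ideal.mul_mem_right _ _ hx, by ring⟩
    · rintro x y ⟨p, hp, q, hq, rfl⟩ ⟨p', hp', q', hq', rfl⟩
      exact ⟨p + p', add_mem hp hp', q + q', add_mem hq hq', by ring⟩
  rw [hspan] at hp hq
  obtain ⟨p0, p1, rfl⟩ := Ideal.mem_span_pair.1 hp
  obtain ⟨q0, q1, rfl⟩ := Ideal.mem_span_pair.1 hq
  refine ⟨eval 0 p0, eval 0 p1 + eval 0 q0, eval 0 q1, ?_⟩
  have hm : ∀ (p : MvPolynomial (Fin 2) K) (i j : Fin 2), (p - C (eval 0 p)) * (X i * X j) ∈ ptIdeal (0 : Fin 2 → K) ^ 3 :=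
    fun p i j => by
      rw [pow_succ' _ 2, pow_two]
      exact Ideal.mul_mem_mul (Nodal27.sub_eval_mem _ p) (Ideal.mul_mem_mul (hX i) (hX j))
  convert add_mem (add_mem (hm p0 0 0) (hm p1 0 1)) (add_mem (hm q0 0 1) (hm q1 1 1)) using 1
  rw [map_add]
  ring

theorem pderiv_quad (a b c : K) :
    pderiv 0 (C a * X 0 ^ 2 + C b * (X 0 * X 1) + C c * X 1 ^ 2 : MvPolynomial (Fin 2) K) =
        C (2 * a) * X 0 + C b * X 1 ∧
      pderiv 1 (C a * X 0 ^ 2 + C b * (X 0 * X 1) + C c * X 1 ^ 2 : MvPolynomial (Fin 2) K) =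
        C b * X 0 + C (2 * c) * X 1 := by
  constructor <;> simp [pderiv_X, map_ofNat] <;> ring

theorem exists_nondegenerate {co : Coords K P 2} (ap : Approx π co)
    (hres : ∀ t : T, ∃ c : K, t - algebraMap K T c ∈ P) (hP : P ≠ ⊤) (hI : P ≤ ap.I ⊔ P ^ 2) :
    ∃ a b c : K, 4 * a * c - b ^ 2 ≠ 0 ∧
      algebraMap K T a * co.s 0 ^ 2 + algebraMap K T b * co.s 0 * co.s 1 + algebraMap K T c * co.s 1 ^ 2 ∈
        P ^ 3 := by
  choose! A B C' habc using fun g (hg : π g = 0) => exists_quad_coeff (ap.ψ_mem_sq hg hP)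
  have hsum : ∀ g g', π g = 0 → π g' = 0 →
      ap.ψ (g + g') - (C (A g + A g') * X 0 ^ 2 + C (B g + B g') * (X 0 * X 1) + C (C' g + C' g') * X 1 ^ 2) ∈
        ptIdeal (0 : Fin 2 → K) ^ 3 := fun g g' hg hg' => by
    convert add_mem (habc g hg) (habc g' hg') using 1
    rw [map_add]; simp only [map_add]; ring
  have hrel : ∀ g a b c, π g = 0 →
      ap.ψ g - (C a * X 0 ^ 2 + C b * (X 0 * X 1) + C c * X 1 ^ 2) ∈ ptIdeal (0 : Fin 2 → K) ^ 3 →
      algebraMap K T a * co.s 0 ^ 2 + algebraMap K T b * co.s 0 * co.s 1 + algebraMap K T c * co.s 1 ^ 2 ∈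
        P ^ 3 := fun g a b c hg h => by
    have h1 := (P ^ 3).sub_mem (by simpa [hg] using ap.agree g) (rho_mem co h)
    simpa [mul_assoc] using h1
  by_contra hall
  push Not at hall
  have hdeg : ∀ g a b c, π g = 0 →
      ap.ψ g - (C a * X 0 ^ 2 + C b * (X 0 * X 1) + C c * X 1 ^ 2) ∈ ptIdeal (0 : Fin 2 → K) ^ 3 →
      4 * a * c - b ^ 2 = 0 := fun g a b c hg h => by_contra fun hne => hall a b c hne (hrel g a b c hg h)
  let V : Set (K × K) := {v | ∃ g, π g = 0 ∧ (v = (2 * A g, B g) ∨ v = (B g, 2 * C' g))}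
  have hpair : ∀ v ∈ V, ∀ w ∈ V, v.1 * w.2 - v.2 * w.1 = 0 := by
    rintro v ⟨g, hg, hv⟩ w ⟨g', hg', hw⟩
    have hd := gradients_dependent (hdeg g _ _ _ hg (habc g hg)) (hdeg g' _ _ _ hg' (habc g' hg'))
      (hdeg (g + g') _ _ _ (by simp [hg, hg']) (hsum g g' hg hg'))
    rcases hv with rfl | rfl <;> rcases hw with rfl | rfl
    · linear_combination hd.1
    · linear_combination hd.2.1
    · linear_combination hd.2.2.1
    · linear_combination hd.2.2.2
  obtain ⟨v0, hv0⟩ : ∃ v0 : K × K, ∀ v ∈ V, ∃ t : K, v.1 = t * v0.1 ∧ v.2 = t * v0.2 := by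
    by_cases h0 : ∀ v ∈ V, v = 0
    · exact ⟨0, fun v hv => ⟨0, by simp [h0 v hv]⟩⟩
    · push Not at h0
      obtain ⟨v0, hv0, hne⟩ := h0
      refine ⟨v0, fun v hv => ?_⟩
      have hd := hpair v0 hv0 v hv
      by_cases h1 : v0.1 = 0
      · have h2 : v0.2 ≠ 0 := fun h2 => hne (Prod.ext h1 h2)
        rw [h1, zero_mul, zero_sub, neg_eq_zero] at hd
        exact ⟨v.2 / v0.2, by rw [(mul_eq_zero.1 hd).resolve_left h2, h1, mul_zero], by field_simp⟩
      · refine ⟨v.1 / v0.1, by field_simp, ?_⟩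
        field_simp
        linear_combination hd
  let L : T := v0.1 • co.s 0 + v0.2 • co.s 1
  have hG : ∀ g, π g = 0 → ∀ k, ap.G g k ∈ Ideal.span {L} ⊔ P ^ 2 := fun g hg k => by
    have h1 := rho_mem co (Nodal27.pderiv_pow_mem (0 : Fin 2 → K) k 2 (habc g hg))
    rw [map_sub, map_sub] at h1
    have h2 := (P ^ 2).sub_mem h1 (Ideal.pow_le_pow_right (by norm_num : 2 ≤ 3) (ap.G_sub_mem g k))
    obtain ⟨v, hv, hρ⟩ : ∃ v ∈ V, co.rho (pderiv k (C (A g) * X 0 ^ 2 + C (B g) * (X 0 * X 1) +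
        C (C' g) * X 1 ^ 2)) = v.1 • co.s 0 + v.2 • co.s 1 := by
      fin_cases k
      · refine ⟨_, ⟨g, hg, Or.inl rfl⟩, ?_⟩
        show co.rho (pderiv 0 _) = _
        rw [(pderiv_quad _ _ _).1]
        simp [Algebra.smul_def, map_ofNat]
      · refine ⟨_, ⟨g, hg, Or.inr rfl⟩, ?_⟩
        show co.rho (pderiv 1 _) = _
        rw [(pderiv_quad _ _ _).2]
        simp [Algebra.smul_def, map_ofNat]
    obtain ⟨t, ht1, ht2⟩ := hv0 v hv
    rw [hρ, ht1, ht2, mul_smul, mul_smul, ← smul_add] at h2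
    refine Submodule.mem_sup.2 ⟨t • L, Submodule.smul_of_tower_mem _ _ (Ideal.mem_span_singleton_self L),
      ap.G g k - t • L, ?_, by abel⟩
    convert h2 using 1
    simp only [L]
    abel
  have hle : P ≤ Ideal.span {L} ⊔ P ^ 2 := hI.trans (sup_le (Ideal.span_le.2 (by
    rintro _ ⟨g, k, hg, rfl⟩; exact hG g hg k)) le_sup_right)
  have hL : L ∈ P := add_mem (Submodule.smul_of_tower_mem _ _ (co.hs 0))
    (Submodule.smul_of_tower_mem _ _ (co.hs 1))
  have hlin : ∀ k, ∃ c : K, co.s k - c • L ∈ P ^ 2 := fun k => by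
    obtain ⟨y, hy, z, hz, hyz⟩ := Submodule.mem_sup.1 (hle (co.hs k))
    obtain ⟨w, rfl⟩ := Ideal.mem_span_singleton'.1 hy
    obtain ⟨c, hc⟩ := hres w
    refine ⟨c, ?_⟩
    rw [← hyz, Algebra.smul_def, show w * L + z - algebraMap K T c * L = (w - algebraMap K T c) * L + z by ring]
    exact add_mem (by rw [pow_two]; exact Ideal.mul_mem_mul hc hL) hz
  choose c hc using hlin
  have h0 := co.indep ![c 1, -c 0] (by
    rw [Fin.sum_univ_two]
    convert (P ^ 2).sub_mem (Submodule.smul_of_tower_mem _ (c 1) (hc 0))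
      (Submodule.smul_of_tower_mem _ (c 0) (hc 1)) using 1
    simp only [Matrix.cons_val_zero, Matrix.cons_val_one, smul_sub, smul_smul, mul_comm (c 1), neg_smul]
    abel)
  have hc0 : c 0 = 0 := by simpa using congrFun h0 1
  have h1 := co.indep ![1, 0] (by simpa [Fin.sum_univ_two, hc0] using hc 0)
  simpa using congrFun h1 0

end Groth.Agent.NodalCrit14
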