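import Groth.Agent.Lib.Nodal27.Crit
import Groth.Agent.Lib.NodeRed19.Basic
import Groth.Agent.Lib.ArtFun.Obs
import Groth.Agent.Lib.CanElt.Killer
import Groth.Agent.Lib.Cohen.Structure
import Groth.Agent.Lib.Compl.Dim
import Groth.Agent.Lib.RegLoc.GlobalDim
import Groth.Agent.Lib.CplLocH7.Basic

/-!
# Quotients of the formal node with a regular element
-/

set_option autoImplicit false
set_option linter.style.haveILetI false
set_option backward.isDefEq.respectTransparency.types false

universe u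

open IsLocalRing MvPowerSeries

noncomputable section

namespace Groth.Agent.NodalCrit14

variable (K : Type u) [Field K]

local notation "P" => MvPowerSeries (Fin 2) K

theorem maximalIdeal_two : maximalIdeal P = Ideal.span {X 0, X 1} := by
  refine le_antisymm ?_ (Ideal.span_le.2 ?_)
  · rw [Cohen.maximalIdeal_mvPowerSeries K 2, IsLocalRing.maximalIdeal_eq_bot, Ideal.map_bot, bot_sup_eq]
    refine le_trans (le_of_eq rfl) (Ideal.span_le.2 ?_)
    rintro _ ⟨i, rfl⟩
    fin_cases i <;> exact Ideal.subset_span (by simp)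
  · intro z hz
    rcases hz with rfl | rfl <;> simp [MvPowerSeries.isUnit_iff_constantCoeff]

theorem X_not_mem_span {i j : Fin 2} (h : i ≠ j) : (X j : P) ∉ Ideal.span {(X i : P)} := by
  rw [Ideal.mem_span_singleton, X_dvd_iff]
  intro H
  have h1 := H (Finsupp.single j 1) (by simp [h])
  rw [coeff_X, if_pos rfl] at h1
  exact one_ne_zero h1

theorem isRegular_quot_X (i : Fin 2) : IsRegularLocalRing (P ⧸ Ideal.span {(X i : P)}) := by
  haveI := ArtFunLib.isRegularLocalRing_mvPowerSeries K 2
  haveI : (Ideal.span {(X i : P)}).IsPrime := (Ideal.span_singleton_prime (NodeRed19.prime_X i K).ne_zero).2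
    (NodeRed19.prime_X i K)
  haveI : IsLocalRing (P ⧸ Ideal.span {(X i : P)}) :=
    IsLocalRing.of_surjective' (Ideal.Quotient.mk _) Ideal.Quotient.mk_surjective
  obtain ⟨j, hij⟩ : ∃ j : Fin 2, i ≠ j := ⟨i + 1, by fin_cases i <;> decide⟩
  let π := Ideal.Quotient.mk (Ideal.span {(X i : P)})
  have hset : maximalIdeal P = Ideal.span {(X i : P)} ⊔ Ideal.span {(X j : P)} := by
    rw [maximalIdeal_two, ← Ideal.span_union, Set.singleton_union]
    rcases Fin.exists_fin_two.1 ⟨i, rfl⟩ with h | h <;>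
      rcases Fin.exists_fin_two.1 ⟨j, rfl⟩ with h' | h' <;> subst h h'
    all_goals first
      | exact absurd rfl hij
      | rfl
      | rw [Set.pair_comm]
  have hm : maximalIdeal (P ⧸ Ideal.span {(X i : P)}) = Ideal.span {π (X j)} := by
    rw [← IsLocalRing.map_maximalIdeal_of_surjective π Ideal.Quotient.mk_surjective, hset, Ideal.map_sup,
      Ideal.map_quotient_self, bot_sup_eq, Ideal.map_span, Set.image_singleton]
  refine IsRegularLocalRing.of_spanFinrank_maximalIdeal_le _ ?_
  have h1 : (maximalIdeal (P ⧸ Ideal.span {(X i : P)})).spanFinrank ≤ 1 := by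
    rw [hm]
    exact (Submodule.spanFinrank_span_le_ncard_of_finite (Set.finite_singleton _)).trans (by simp)
  have h2 : ¬ IsField (P ⧸ Ideal.span {(X i : P)}) := by
    rw [IsLocalRing.isField_iff_maximalIdeal_eq, hm, Ideal.span_singleton_eq_bot, Ideal.Quotient.eq_zero_iff_mem]
    exact X_not_mem_span K hij
  refine (Nat.cast_le.2 h1).trans ?_
  have h3 : ringKrullDim (P ⧸ Ideal.span {(X i : P)}) ≠ 0 := fun h => h2 (by
    haveI : Ring.KrullDimLE 0 (P ⧸ Ideal.span {(X i : P)}) := Ring.krullDimLE_iff.2 h.le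
    exact Ring.KrullDimLE.isField_of_isDomain)
  have h4 : (0 : WithBot ℕ∞) < ringKrullDim (P ⧸ Ideal.span {(X i : P)}) :=
    lt_of_le_of_ne ringKrullDim_nonneg_of_nontrivial (Ne.symm h3)
  obtain ⟨d, hd⟩ := WithBot.ne_bot_iff_exists.1 (ne_bot_of_gt h4)
  rw [← hd] at h4 ⊢
  have h5 : (1 : ℕ∞) ≤ d := Order.one_le_iff_pos.2 (by exact_mod_cast h4)
  exact_mod_cast h5

theorem eq_maximal_of_prime {i : Fin 2} {Q : Ideal P} [Q.IsPrime] (hi : (X i : P) ∈ Q) {g : P} (hg : g ∈ Q)
    (hg' : g ∉ Ideal.span {(X i : P)}) : Q = maximalIdeal P := by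
  haveI := isRegular_quot_X K i
  let π := Ideal.Quotient.mk (Ideal.span {(X i : P)})
  haveI : (Ideal.span {(X i : P)}).IsPrime := (Ideal.span_singleton_prime (NodeRed19.prime_X i K).ne_zero).2
    (NodeRed19.prime_X i K)
  have hle : Ideal.span {(X i : P)} ≤ Q := by simpa [Ideal.span_le] using hi
  haveI : (Q.map π).IsPrime := Ideal.map_isPrime_of_surjective Ideal.Quotient.mk_surjective (by simpa [π] using hle)
  haveI : Ring.KrullDimLE 1 (P ⧸ Ideal.span {(X i : P)}) := Ring.krullDimLE_iff.2 (by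
    refine (ringKrullDim_le_spanFinrank_maximalIdeal _).trans ?_
    have h : maximalIdeal P = Ideal.span {(X i : P)} ⊔ Ideal.span {(X (i + 1) : P)} := by
      rw [maximalIdeal_two, ← Ideal.span_union]
      fin_cases i <;> simp [Set.pair_comm]
    have hm : maximalIdeal (P ⧸ Ideal.span {(X i : P)}) = Ideal.span {π (X (i + 1))} := by
      rw [← IsLocalRing.map_maximalIdeal_of_surjective π Ideal.Quotient.mk_surjective, h, Ideal.map_sup,
        Ideal.map_quotient_self, bot_sup_eq, Ideal.map_span, Set.image_singleton]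
    rw [hm]
    exact_mod_cast (Submodule.spanFinrank_span_le_ncard_of_finite (Set.finite_singleton _)).trans (by simp))
  have hne : Q.map π ≠ ⊥ := fun h => hg' (by
    have : π g ∈ Q.map π := Ideal.mem_map_of_mem π hg
    rw [h] at this
    exact Ideal.Quotient.eq_zero_iff_mem.1 this)
  have hmax : (Q.map π).IsMaximal := Ideal.isMaximal_of_isPrime_of_ne_bot _ hne
  haveI : (Ideal.comap π (Q.map π)).IsMaximal :=
    Ideal.comap_isMaximal_of_surjective π Ideal.Quotient.mk_surjective
  have hc : Ideal.comap π (Q.map π) = Q := by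
    rw [Ideal.comap_map_of_surjective π Ideal.Quotient.mk_surjective]
    refine sup_eq_left.2 fun x hx => hle ?_
    rw [Ideal.mem_comap, Ideal.mem_bot] at hx
    exact Ideal.Quotient.eq_zero_iff_mem.1 hx
  rw [← hc]
  exact IsLocalRing.eq_maximalIdeal inferInstance

theorem pow_mul_mem {J : Ideal P} {a : P} {T : P} (hT : T ∈ maximalIdeal P)
    (hJ : ∀ Q : Ideal P, Q.IsPrime → (∀ b, b * a ∈ J → b ∈ Q) → Q = maximalIdeal P)
    (hnzd : ∀ b, T * b ∈ J → b ∈ J) : a ∈ J := by
  let I := Submodule.colon J ({a} : Set P)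
  have h1 : T ∈ I.radical := by
    rw [Ideal.radical_eq_sInf, Ideal.mem_sInf]
    rintro Q ⟨hIQ, hQ⟩
    rw [hJ Q hQ fun b hb => hIQ (Submodule.mem_colon_singleton.2 hb)]
    exact hT
  obtain ⟨n, hn⟩ := h1
  have h2 : T ^ n * a ∈ J := Submodule.mem_colon_singleton.1 hn
  clear hn
  induction n with
  | zero => simpa using h2
  | succ n ih => exact ih (hnzd _ (by rwa [← mul_assoc, ← pow_succ']))

/-- An ideal containing `uv` with a regular element modulo it. -/
theorem ideal_cases {J : Ideal P} (huv : (X 0 * X 1 : P) ∈ J) {T : P} (hT : T ∈ maximalIdeal P)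
    (hnzd : ∀ b, T * b ∈ J → b ∈ J) (hne : J ≠ ⊤) :
    J = Ideal.span {(X 0 * X 1 : P)} ∨ J = Ideal.span {(X 0 : P)} ∨ J = Ideal.span {(X 1 : P)} := by
  by_cases h0 : J ≤ Ideal.span {(X 0 : P)} <;> by_cases h1 : J ≤ Ideal.span {(X 1 : P)}
  · refine Or.inl (le_antisymm (fun f hf => ?_) (by simpa [Ideal.span_le] using huv))
    obtain ⟨g, rfl⟩ := Ideal.mem_span_singleton.1 (h0 hf)
    rw [Ideal.mem_span_singleton]
    rcases (NodeRed19.prime_X 1 K).dvd_or_dvd (Ideal.mem_span_singleton.1 (h1 hf)) with h | h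
    · exact absurd (Ideal.mem_span_singleton.2 h) (X_not_mem_span K (by decide))
    · exact mul_dvd_mul_left _ h
  · obtain ⟨f, hf, hf1⟩ := SetLike.not_le_iff_exists.1 h1
    obtain ⟨g, rfl⟩ := Ideal.mem_span_singleton.1 (h0 hf)
    refine Or.inr (Or.inl (le_antisymm h0 ?_))
    rw [Ideal.span_le, Set.singleton_subset_iff]
    refine pow_mul_mem K hT (fun Q hQ hsub => ?_) hnzd
    refine eq_maximal_of_prime K (i := 1) (hsub _ (by rwa [mul_comm])) (hsub g (by rwa [mul_comm])) fun h => hf1 ?_
    exact Ideal.mul_mem_left _ _ h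
  · obtain ⟨f, hf, hf0⟩ := SetLike.not_le_iff_exists.1 h0
    obtain ⟨g, rfl⟩ := Ideal.mem_span_singleton.1 (h1 hf)
    refine Or.inr (Or.inr (le_antisymm h1 ?_))
    rw [Ideal.span_le, Set.singleton_subset_iff]
    refine pow_mul_mem K hT (fun Q hQ hsub => ?_) hnzd
    refine eq_maximal_of_prime K (i := 0) (hsub _ huv) (hsub g (by rwa [mul_comm])) fun h => hf0 ?_
    exact Ideal.mul_mem_left _ _ h
  · refine absurd ((Ideal.eq_top_iff_one J).2 (pow_mul_mem K hT (fun Q hQ hsub => ?_) hnzd)) hne
    obtain ⟨f0, hf0, hg0⟩ := SetLike.not_le_iff_exists.1 h0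
    obtain ⟨f1, hf1, hg1⟩ := SetLike.not_le_iff_exists.1 h1
    rcases hQ.mem_or_mem (hsub _ (by rwa [mul_one])) with h | h
    · exact eq_maximal_of_prime K h (hsub f0 (by rwa [mul_one])) hg0
    · exact eq_maximal_of_prime K h (hsub f1 (by rwa [mul_one])) hg1

open scoped TensorProduct in
theorem flat_quot {R : Type u} [CommRing R] (I : Ideal R) (S : Type u) [CommRing S] [Algebra R S] [Module.Flat R S] :
    Module.Flat (R ⧸ I) (S ⧸ I.map (algebraMap R S)) := by
  haveI : Module.Flat (R ⧸ I) ((R ⧸ I) ⊗[R] S) := Module.Flat.baseChange R (R ⧸ I) S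
  exact Module.Flat.of_linearEquiv (Algebra.TensorProduct.quotIdealMapEquivQuotTensor S I).toLinearEquiv

/-- A quotient with a regular element of a local ring with completion the formal node. -/
theorem bijective_or_regular {A B : Type u} [CommRing A] [IsLocalRing A] [IsNoetherianRing A] [CommRing B]
    [IsLocalRing B] [IsNoetherianRing B]
    (e : AdicCompletion (maximalIdeal A) A ≃+* (P ⧸ Ideal.span {(X 0 * X 1 : P)}))
    (φ : A →+* B) (hφ : Function.Surjective φ) (t : B) (ht : t ∈ maximalIdeal B) (hreg : IsSMulRegular B t) :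
    Function.Bijective φ ∨ IsRegularLocalRing B := by
  suffices H : ∀ J : Ideal A, J ≠ ⊤ → ∀ t : A, t ∈ maximalIdeal A → (∀ b, t * b ∈ J → b ∈ J) →
      J = ⊥ ∨ IsRegularLocalRing (A ⧸ J) by
    obtain ⟨t0, rfl⟩ := hφ t
    haveI : IsLocalHom φ := IsLocalHom.of_surjective φ hφ
    rcases H (RingHom.ker φ) (RingHom.ker_ne_top φ) t0 (fun hu => ht (hu.map φ))
      (fun b hb => by
        rw [RingHom.mem_ker, map_mul] at hb
        rw [RingHom.mem_ker]
        exact hreg (hb.trans (smul_zero (φ t0)).symm)) with h | h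
    · exact Or.inl ⟨(RingHom.injective_iff_ker_eq_bot φ).2 h, hφ⟩
    · exact Or.inr (IsRegularLocalRing.of_ringEquiv (RingHom.quotientKerEquivOfSurjective hφ))
  intro J hJ t ht hnzd
  let C := AdicCompletion (maximalIdeal A) A
  haveI : IsNoetherianRing C := Compl.isNoetherianRing_maximalIdeal_adicCompletion A
  haveI : Module.FaithfullyFlat A C := CplLocH7.faithfullyFlat_cpl (A := A)
  haveI : Nontrivial (A ⧸ J) := Ideal.Quotient.nontrivial_iff.2 hJ
  have hC : ∀ b : C, algebraMap A C t * b ∈ J.map (algebraMap A C) → b ∈ J.map (algebraMap A C) := by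
    have hreg' : IsSMulRegular (A ⧸ J) (Ideal.Quotient.mk J t) := (isSMulRegular_iff_right_eq_zero_of_smul).2
      fun x hx => by
        obtain ⟨x, rfl⟩ := Ideal.Quotient.mk_surjective x
        rw [smul_eq_mul, ← map_mul, Ideal.Quotient.eq_zero_iff_mem] at hx
        exact Ideal.Quotient.eq_zero_iff_mem.2 (hnzd x hx)
    haveI : Module.Flat (A ⧸ J) (C ⧸ J.map (algebraMap A C)) := flat_quot J C
    have h2 : IsSMulRegular (C ⧸ J.map (algebraMap A C)) _ := IsSMulRegular.of_flat hreg'
    intro b hb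
    rw [← Ideal.Quotient.eq_zero_iff_mem, map_mul] at hb
    exact Ideal.Quotient.eq_zero_iff_mem.1 (h2 (hb.trans (smul_zero _).symm))
  let σ : P →+* C := e.symm.toRingHom.comp (Ideal.Quotient.mk _)
  have hσ : Function.Surjective σ := e.symm.surjective.comp Ideal.Quotient.mk_surjective
  obtain ⟨T, hT⟩ := hσ (algebraMap A C t)
  have hker : RingHom.ker σ = Ideal.span {(X 0 * X 1 : P)} := by
    rw [RingHom.ker_comp_of_injective _ e.symm.injective, Ideal.mk_ker]
  let J' : Ideal P := (J.map (algebraMap A C)).comap σ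
  have hcase := ideal_cases K (J := J') (T := T)
    (by
      show σ _ ∈ J.map (algebraMap A C)
      rw [RingHom.mem_ker.1 (hker.ge (Ideal.subset_span rfl))]
      exact zero_mem _)
    (fun hu => (Ideal.eq_top_iff_one (maximalIdeal A)).not.1 (maximalIdeal.isMaximal A).ne_top (by
      have h1 : IsUnit (algebraMap A C t) := hT ▸ hu.map σ
      exact absurd ((isUnit_map_iff _ t).1 h1) ht))
    (fun b hb => hC (σ b) (by rw [← hT, ← map_mul]; exact hb))
    (fun h => hJ (by
      have h1 : J.map (algebraMap A C) = ⊤ := by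
        rw [← Ideal.map_comap_of_surjective σ hσ (J.map (algebraMap A C))]
        show Ideal.map σ J' = ⊤
        rw [h, Ideal.map_top]
      rw [← Ideal.comap_map_eq_self_of_faithfullyFlat (B := C) J, h1, Ideal.comap_top]))
  rcases hcase with h | h | h
  · refine Or.inl ?_
    have h1 : J.map (algebraMap A C) = ⊥ := by
      rw [← Ideal.map_comap_of_surjective σ hσ (J.map (algebraMap A C))]
      show Ideal.map σ J' = ⊥
      rw [h, ← hker, Ideal.map_eq_bot_iff_le_ker]
    rw [← Ideal.comap_map_eq_self_of_faithfullyFlat (B := C) J, h1, ← RingHom.ker_eq_comap_bot]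
    exact (RingHom.injective_iff_ker_eq_bot _).1 (FaithfulSMul.algebraMap_injective A C)
  all_goals
    refine Or.inr ?_
    have hs : Function.Surjective ((Ideal.Quotient.mk (J.map (algebraMap A C))).comp σ) :=
      Ideal.Quotient.mk_surjective.comp hσ
    have hk : RingHom.ker ((Ideal.Quotient.mk (J.map (algebraMap A C))).comp σ) = J' := by
      rw [← RingHom.comap_ker, Ideal.mk_ker]
    haveI : IsRegularLocalRing (C ⧸ J.map (algebraMap A C)) :=
      @IsRegularLocalRing.of_ringEquiv _ _ (isRegular_quot_X K _) _ _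
        ((Ideal.quotEquivOfEq (h.symm.trans hk.symm)).trans (RingHom.quotientKerEquivOfSurjective hs))
    haveI : IsLocalRing (A ⧸ J) := IsLocalRing.of_surjective' (Ideal.Quotient.mk J) Ideal.Quotient.mk_surjective
    haveI : Module.Flat (A ⧸ J) (C ⧸ J.map (algebraMap A C)) := flat_quot J C
    haveI : IsLocalHom (algebraMap (A ⧸ J) (C ⧸ J.map (algebraMap A C))) := ⟨fun x hx => by
      obtain ⟨x, rfl⟩ := Ideal.Quotient.mk_surjective x
      by_contra hn
      have hx' : x ∈ maximalIdeal A := fun hu => hn (hu.map _)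
      have : algebraMap A C x ∈ maximalIdeal C := fun hu => hx' ((isUnit_map_iff _ x).1 hu)
      exact (Ideal.Quotient.mk (J.map (algebraMap A C))).domain_nontrivial |> fun _ =>
        (IsLocalRing.map_maximalIdeal_of_surjective (Ideal.Quotient.mk (J.map (algebraMap A C)))
          Ideal.Quotient.mk_surjective).le (Ideal.mem_map_of_mem _ this) hx⟩
    exact RegLoc.isRegularLocalRing_of_flat (A ⧸ J) (C ⧸ J.map (algebraMap A C))

end Groth.Agent.NodalCrit14
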